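/-
Finite facts about `C₂ × A₅` used for the weak closure characterisation of Janko's first group.
-/
import Cfsg.Agent.EqLemmas
import Cfsg.Agent.Lib.JankoOneOrder.Model

set_option autoImplicit false
set_option synthInstance.maxSize 2048
set_option synthInstance.maxHeartbeats 200000

namespace Cfsg.Agent.J1Closure

open JankoOneOrder (Mdl m1)

def pa : Equiv.Perm (Fin 5) := Equiv.swap 0 1 * Equiv.swap 2 3
def pb : Equiv.Perm (Fin 5) := Equiv.swap 0 2 * Equiv.swap 1 3
def px : Equiv.Perm (Fin 5) := Equiv.swap 0 1 * Equiv.swap 1 2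
def pu : Equiv.Perm (Fin 5) := Equiv.swap 0 1 * Equiv.swap 3 4

def ma : Mdl := (1, ⟨pa, Equiv.Perm.mem_alternatingGroup.mpr (by decide +kernel)⟩)
def mb : Mdl := (1, ⟨pb, Equiv.Perm.mem_alternatingGroup.mpr (by decide +kernel)⟩)
def mx : Mdl := (1, ⟨px, Equiv.Perm.mem_alternatingGroup.mpr (by decide +kernel)⟩)
def mu : Mdl := (1, ⟨pu, Equiv.Perm.mem_alternatingGroup.mpr (by decide +kernel)⟩)

/-- The elements of the model Sylow 2-subgroup. -/
def eList : List Mdl := [1, m1, ma, mb, ma * mb, m1 * ma, m1 * mb, m1 * (ma * mb)]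

def vList : List Mdl := [1, ma, mb, ma * mb]

def a4List : List Mdl := vList ++ vList.map (· * mx) ++ vList.map (· * (mx * mx))

/-- Every element as a product of the five generators. -/
def allList : List Mdl :=
  let A := a4List ++ a4List.flatMap (fun a => a4List.map fun b => a * mu * b)
  A ++ A.map (m1 * ·)

theorem mem_allList : ∀ z : Mdl, z ∈ allList := by decide +kernel

/-- An automorphism fixing the Sylow 2-subgroup pointwise is conjugation by an element of it. -/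
theorem rigid : ∀ y : Mdl, y * y * y = 1 → y * ma = mx * ma * mx⁻¹ * y → y * mb = mx * mb * mx⁻¹ * y →
    ∀ z : Mdl, z * z = 1 → z * y * z = y⁻¹ → (ma * z) * (ma * z) * (ma * z) = 1 →
      ∃ v ∈ vList, y = v * mx * v ∧ z = v * mu * v := by
  decide +kernel

theorem gen_facts : mx * mx * mx = 1 ∧ mu * mu = 1 ∧ mu * mx * mu = mx⁻¹ ∧
    (ma * mu) * (ma * mu) * (ma * mu) = 1 ∧ mx * ma * mx⁻¹ ≠ ma ∧ ma ≠ 1 ∧ mb ≠ 1 ∧ ma * ma = 1 ∧
      mb * mb = 1 := by
  decide +kernel

theorem cent_eList : ∀ z : Mdl, z * ma = ma * z → z * mb = mb * z → z ∈ eList := by decide +kernel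

theorem eList_mul : ∀ z ∈ eList, ∀ w ∈ eList, z * w ∈ eList := by decide +kernel

theorem eList_sq : ∀ z ∈ eList, z * z = 1 := by decide +kernel

theorem eList_nodup : eList.Nodup := by decide +kernel

theorem fix_mx : ∀ z ∈ eList, mx * z * mx⁻¹ = z → z = 1 ∨ z = m1 := by decide +kernel

theorem mx_perm : ∀ v ∈ [ma, mb, ma * mb],
    ∃ i : Fin 3, mx ^ i.1 * v * (mx ^ i.1)⁻¹ = ma := by
  decide +kernel

theorem mx_eList : ∀ z ∈ eList, mx * z * mx⁻¹ ∈ eList := by decide +kernel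

/-- Involutions of the simple factor. -/
theorem fst_char : ∀ z : Mdl, z * z = 1 → z ≠ 1 →
    ((z.1 = 1 → ∃ y : Mdl, y * y * y = 1 ∧ (z * y) * (z * y) * (z * y) = 1) ∧
      ∀ y : Mdl, y * y * y = 1 → (z * y) * (z * y) * (z * y) = 1 → z.1 = 1) := by
  decide +kernel

theorem eList_fst : ∀ z ∈ eList, z ≠ 1 → z.1 = 1 → z ∈ [ma, mb, ma * mb] := by decide +kernel

theorem invol_class : ∀ z : Mdl, z * z = 1 → z ≠ 1 → z ≠ m1 →
    ∃ y : Mdl, y * z * y⁻¹ = ma ∨ y * z * y⁻¹ = m1 * ma := by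
  decide +kernel

theorem card_type_a : Fintype.card {z : Mdl // z = m1 ∨ (z * z = 1 ∧ z ≠ 1 ∧ z.1 = 1)} = 16 := by
  decide +kernel

theorem card_type_ta : Fintype.card {z : Mdl // z = m1 ∨ (z * z = 1 ∧ z ≠ 1 ∧ z.1 ≠ 1)} = 16 := by
  decide +kernel

theorem card_invol : Fintype.card {z : Mdl // z * z = 1 ∧ z ≠ 1} = 31 := by
  decide +kernel

theorem conj_fst : ∀ z : Mdl, z.1 = 1 → z ≠ 1 → z * z = 1 → ∃ y, y * z * y⁻¹ = ma := by decide +kernel

theorem conj_fst' : ∀ z : Mdl, z.1 ≠ 1 → z * z = 1 → z ≠ m1 → ∃ y, y * z * y⁻¹ = m1 * ma := by decide +kernel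

theorem commutator_ma : ∃ a b : Mdl, a * b * a⁻¹ * b⁻¹ = ma := by decide +kernel

/-- A non-trivial element not squaring to one has a conjugate with product of order three. -/
theorem normal_step : ∀ z : Mdl, z ≠ 1 → z * z = 1 ∨
    ∃ y : Mdl, z * (y * z * y⁻¹) ≠ 1 ∧
      z * (y * z * y⁻¹) * (z * (y * z * y⁻¹)) * (z * (y * z * y⁻¹)) = 1 := by
  decide +kernel

/-- An element of order three has a conjugate with product an involution. -/
theorem normal_three : ∀ z : Mdl, z * z * z = 1 → z ≠ 1 →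
    ∃ y : Mdl, z * (y * z * y⁻¹) ≠ 1 ∧ z * (y * z * y⁻¹) * (z * (y * z * y⁻¹)) = 1 := by
  decide +kernel

theorem mdl_not_solvable : ¬ Group.IsSolvable Mdl := by
  intro h

  have h2 : Group.IsSolvable (alternatingGroup (Fin 5)) :=
    Group.isSolvable_of_surjective (f := MonoidHom.snd (Multiplicative (ZMod 2)) (alternatingGroup (Fin 5)))
      fun a => ⟨(1, a), rfl⟩
  have := alternatingGroup.isSimpleGroup (α := Fin 5) (by simp)
  have hc := (IsSimpleGroup.comm_iff_isSolvable (G := alternatingGroup (Fin 5))).mpr h2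
  have h1 := congrArg (fun p : alternatingGroup (Fin 5) => (p : Equiv.Perm (Fin 5)) 0) (hc ma.2 mx.2)
  revert h1
  decide +kernel

end Cfsg.Agent.J1Closure
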