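/-
The weak closure of an involution in its centraliser when it is of type `2 × A5`.
Main results: `Hyp.invol_conj`, `Hyp.exists_frame`, `Frame.cent_split`.
-/
import Cfsg.Agent.Lib.J1Closure.Facts

set_option autoImplicit false

namespace Cfsg.Agent.J1Closure

open Subgroup
open JankoOneOrder (Mdl m1)

variable {G : Type*} [Group G]

/-- The group generated by the conjugates of `d` commuting with `d`. -/
def Wt (d : G) : Subgroup G := closure {x | IsConj d x ∧ Commute x d}

/-- The hypothesis of the characterisation. -/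
structure Hyp (G : Type*) [Group G] (t : G) : Prop where
  ord : orderOf t = 2
  model : Nonempty (Wt t ≃* Mdl)
  odd : ¬ 2 ∣ Nat.card {x : G // IsConj t x}

theorem mem_Wt_self (d : G) : d ∈ Wt d := subset_closure ⟨IsConj.refl d, Commute.refl d⟩

theorem mem_Wt {d x : G} (hc : IsConj d x) (hx : Commute x d) : x ∈ Wt d := subset_closure ⟨hc, hx⟩

theorem Wt_le (d : G) : Wt d ≤ centralizer ({d} : Set G) :=
  (closure_le _).mpr fun _ hx => mem_centralizer_singleton_iff.mpr hx.2

theorem Wt_map (g d : G) : (Wt d).map (MulAut.conj g).toMonoidHom = Wt (g * d * g⁻¹) := by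
  rw [Wt, Wt, MonoidHom.map_closure]
  congr 1
  ext x
  constructor
  · rintro ⟨y, ⟨hy, hyd⟩, rfl⟩
    exact ⟨((isConj_iff.mpr ⟨g, rfl⟩ : IsConj d (g * d * g⁻¹)).symm.trans hy).trans (isConj_iff.mpr ⟨g, rfl⟩),
      Commute.conj hyd g⟩
  · rintro ⟨hx, hxd⟩
    refine ⟨g⁻¹ * x * g, ⟨((isConj_iff.mpr ⟨g, rfl⟩ : IsConj d (g * d * g⁻¹)).trans hx).trans
      (isConj_iff.mpr ⟨g⁻¹, by rw [inv_inv]⟩), ?_⟩, ?_⟩
    · have h := Commute.conj hxd g⁻¹
      simpa [mul_assoc] using h
    · show g * (g⁻¹ * x * g) * g⁻¹ = x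
      group

theorem conj_mem_Wt {c d w : G} (hc : c ∈ centralizer ({d} : Set G)) (hw : w ∈ Wt d) : c * w * c⁻¹ ∈ Wt d := by
  have h : c * w * c⁻¹ ∈ Wt (c * d * c⁻¹) := Wt_map c d ▸ ⟨w, hw, rfl⟩
  rwa [mem_centralizer_singleton_iff.mp hc, mul_inv_cancel_right] at h

theorem conj_mem_centralizer_Wt {g d z : G} (hz : z ∈ centralizer (Wt d : Set G)) :
    g * z * g⁻¹ ∈ centralizer (Wt (g * d * g⁻¹) : Set G) := by
  refine mem_centralizer_iff.mpr fun w hw => ?_
  rw [← Wt_map g d] at hw
  obtain ⟨v, hv, rfl⟩ := hw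
  exact Commute.conj (show Commute v z from mem_centralizer_iff.mp hz v hv) g

namespace Hyp

variable {t : G}

theorem self_mul_self (h : Hyp G t) : t * t = 1 := by
  have := pow_orderOf_eq_one t
  rwa [h.ord, pow_two] at this

theorem ne_one (h : Hyp G t) : t ≠ 1 := fun e => by
  have := h.ord
  rw [e, orderOf_one] at this
  omega

theorem conj (h : Hyp G t) {d : G} (hd : IsConj t d) : Hyp G d := by
  obtain ⟨g, rfl⟩ := isConj_iff.mp hd
  obtain ⟨e⟩ := h.model
  refine ⟨by rw [← MulAut.conj_apply, MulEquiv.orderOf_eq, h.ord], ?_, ?_⟩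
  · rw [← Wt_map g t]
    exact ⟨((Wt t).equivMapOfInjective _ (MulAut.conj g).injective).symm.trans e⟩
  · rw [Nat.card_congr (Equiv.subtypeEquivRight fun x =>
      (⟨fun hx => hd.trans hx, fun hx => hd.symm.trans hx⟩ : IsConj (g * t * g⁻¹) x ↔ IsConj t x))]
    exact h.odd

/-- An embedding of the model onto the weak closure. -/
theorem exists_hom (h : Hyp G t) :
    ∃ j : Mdl →* G, Function.Injective j ∧ j.range = Wt t ∧ j m1 = t := by
  obtain ⟨e⟩ := h.model
  refine ⟨(Wt t).subtype.comp e.symm.toMonoidHom, (Wt t).subtype_injective.comp e.symm.injective, ?_, ?_⟩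
  · rw [MonoidHom.range_comp, MonoidHom.range_eq_top.mpr e.symm.surjective, ← MonoidHom.range_eq_map,
      Subgroup.range_subtype]
  · have hc : ∀ y, e ⟨t, mem_Wt_self t⟩ * y = y * e ⟨t, mem_Wt_self t⟩ := by
      intro y
      obtain ⟨w, rfl⟩ := e.surjective y
      rw [← map_mul, ← map_mul]
      exact congrArg e (Subtype.ext (mem_centralizer_singleton_iff.mp (Wt_le t w.2)).symm)
    rcases JankoOneOrder.central_eq _ hc with h1 | h1
    · rw [map_eq_one_iff e e.injective] at h1
      exact absurd (congrArg Subtype.val h1) h.ne_one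
    · show ((e.symm m1 : Wt t) : G) = t
      rw [← h1, e.symm_apply_apply]

theorem mul_self_of_isConj (h : Hyp G t) {d : G} (hd : IsConj t d) : d * d = 1 := (h.conj hd).self_mul_self

theorem ne_one_of_isConj (h : Hyp G t) {d : G} (hd : IsConj t d) : d ≠ 1 := (h.conj hd).ne_one

variable [Finite G]

/-- All involutions of the weak closure are conjugate to `t`. -/
theorem invol_conj (h : Hyp G t) {x : G} (hx : x ∈ Wt t) (hx2 : x * x = 1) (hx1 : x ≠ 1) : IsConj t x := by
  classical
  have : Fact (Nat.Prime 2) := ⟨Nat.prime_two⟩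
  obtain ⟨j, hj, hr, hm⟩ := h.exists_hom
  let T := {z : Mdl // IsConj t (j z)}
  -- the conjugates commuting with `t`
  have hcard : Nat.card T % 2 = 1 := by
    let f : Equiv.Perm {x : G // IsConj t x} :=
      (MulAut.conj t).toEquiv.subtypeEquiv fun x => by
        show IsConj t x ↔ IsConj t (t * x * t⁻¹)
        exact ⟨fun hx => hx.trans (isConj_iff.mpr ⟨t, rfl⟩), fun hx => hx.trans (isConj_iff.mpr ⟨t, rfl⟩).symm⟩
    have hf : orderOf f ∣ 2 := orderOf_dvd_of_pow_eq_one (Equiv.ext fun x => Subtype.ext (by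
      show t * (t * x.1 * t⁻¹) * t⁻¹ = x.1
      rw [inv_eq_of_mul_eq_one_right h.self_mul_self, ← mul_assoc, ← mul_assoc, h.self_mul_self, one_mul,
        mul_assoc, h.self_mul_self, mul_one]))
    have hP : IsPGroup 2 (zpowers f) := by
      rcases (Nat.dvd_prime Nat.prime_two).mp hf with h1 | h1
      · exact IsPGroup.of_card (n := 0) (by rw [Nat.card_zpowers, h1, pow_zero])
      · exact IsPGroup.of_card (n := 1) (by rw [Nat.card_zpowers, h1, pow_one])
    have hmod := hP.card_modEq_card_fixedPoints {x : G // IsConj t x}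
    have e : Nat.card T = Nat.card (MulAction.fixedPoints (zpowers f) {x : G // IsConj t x}) := by
      refine Nat.card_eq_of_bijective (fun z : T => ⟨⟨j z.1, z.2⟩, ?_⟩) ⟨?_, ?_⟩
      · rintro ⟨g, hg⟩
        show g • (⟨j z.1, z.2⟩ : {x : G // IsConj t x}) = _
        refine MulAction.mem_stabilizer_iff.mp (zpowers_le.mpr (?_ : f ∈ MulAction.stabilizer _ _) hg)
        refine MulAction.mem_stabilizer_iff.mpr (Subtype.ext ?_)
        show t * j z.1 * t⁻¹ = j z.1
        have h2 := congrArg j (JankoOneOrder.m1_central z.1)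
        rw [map_mul, map_mul, hm] at h2
        rw [h2, mul_inv_cancel_right]
      · intro a b hab
        exact Subtype.ext (hj (congrArg (fun q : MulAction.fixedPoints (zpowers f) {x : G // IsConj t x} => q.1.1) hab))
      · rintro ⟨⟨y, hy⟩, hfix⟩
        have h1 := congrArg Subtype.val (hfix ⟨f, mem_zpowers f⟩)
        have h2 : Commute y t := (mul_inv_eq_iff_eq_mul.mp (show t * y * t⁻¹ = y from h1)).symm
        have h3 : y ∈ j.range := hr ▸ mem_Wt hy h2
        obtain ⟨z, rfl⟩ := h3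
        exact ⟨⟨z, hy⟩, rfl⟩
    have hodd := h.odd
    unfold Nat.ModEq at hmod
    omega
  have hinv : ∀ z : T, z.1 * z.1 = 1 ∧ z.1 ≠ 1 := fun z => by
    refine ⟨hj ?_, fun e => h.ne_one_of_isConj z.2 (by rw [e, map_one])⟩
    rw [map_mul, map_one]
    exact h.mul_self_of_isConj z.2
  have hclosed : ∀ (z y : Mdl), IsConj t (j z) → IsConj t (j (y * z * y⁻¹)) := fun z y hz =>
    hz.trans (isConj_iff.mpr ⟨j y, by rw [map_mul, map_mul, map_inv]⟩)
  have hm1 : IsConj t (j m1) := by rw [hm]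
  -- each class of involutions other than the centre occurs
  have hA : IsConj t (j ma) ∧ IsConj t (j (m1 * ma)) := by
    by_contra hne
    have hsmall : ∀ z : T, z.1 = m1 ∨ ∃ y, (y * z.1 * y⁻¹ = ma ∨ y * z.1 * y⁻¹ = m1 * ma) ∧
        IsConj t (j (y * z.1 * y⁻¹)) := by
      intro z
      by_cases hz : z.1 = m1
      · exact Or.inl hz
      · obtain ⟨y, hy⟩ := invol_class z.1 (hinv z).1 (hinv z).2 hz
        exact Or.inr ⟨y, hy, hclosed _ y z.2⟩
    by_cases ha : IsConj t (j ma)
    · have hta : ¬ IsConj t (j (m1 * ma)) := fun hh => hne ⟨ha, hh⟩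
      have e : Nat.card T = 16 := by
        rw [← card_type_a, ← Nat.card_eq_fintype_card]
        refine Nat.card_congr (Equiv.subtypeEquivRight fun z => ⟨fun hz => ?_, fun hz => ?_⟩)
        · by_cases h1 : z = m1
          · exact Or.inl h1
          · refine Or.inr ⟨(hinv ⟨z, hz⟩).1, (hinv ⟨z, hz⟩).2, by_contra fun h2 => hta ?_⟩
            obtain ⟨y, hy⟩ := conj_fst' z h2 (hinv ⟨z, hz⟩).1 h1
            rw [← hy]; exact hclosed z y hz
        · rcases hz with rfl | ⟨h2, h1, h3⟩
          · exact hm1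
          · obtain ⟨y, hy⟩ := conj_fst z h3 h1 h2
            rw [show z = y⁻¹ * ma * y⁻¹⁻¹ by rw [← hy]; group]
            exact hclosed _ _ ha
      omega
    by_cases hta : IsConj t (j (m1 * ma))
    · have e : Nat.card T = 16 := by
        rw [← card_type_ta, ← Nat.card_eq_fintype_card]
        refine Nat.card_congr (Equiv.subtypeEquivRight fun z => ⟨fun hz => ?_, fun hz => ?_⟩)
        · by_cases h1 : z = m1
          · exact Or.inl h1
          · refine Or.inr ⟨(hinv ⟨z, hz⟩).1, (hinv ⟨z, hz⟩).2, fun h2 => ha ?_⟩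
            obtain ⟨y, hy⟩ := conj_fst z h2 (hinv ⟨z, hz⟩).2 (hinv ⟨z, hz⟩).1
            rw [← hy]; exact hclosed z y hz
        · rcases hz with rfl | ⟨h2, h1, h3⟩
          · exact hm1
          · by_cases h4 : z = m1
            · exact h4 ▸ hm1
            obtain ⟨y, hy⟩ := conj_fst' z h3 h2 h4
            rw [show z = y⁻¹ * (m1 * ma) * y⁻¹⁻¹ by rw [← hy]; group]
            exact hclosed _ _ hta
      omega
    have honly : ∀ z : T, z.1 = m1 := fun z => (hsmall z).resolve_right fun ⟨y, hy, hc⟩ => by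
      rcases hy with e | e <;> rw [e] at hc
      · exact ha hc
      · exact hta hc
    have hWle : Wt t ≤ zpowers t := by
      refine (closure_le _).mpr fun y hy => ?_
      have h3 : y ∈ j.range := hr ▸ mem_Wt hy.1 hy.2
      obtain ⟨z, rfl⟩ := h3
      rw [show z = m1 from honly ⟨z, hy.1⟩, hm]
      exact mem_zpowers t
    have h2 := card_le_of_le hWle
    rw [Nat.card_zpowers, h.ord, ← hr, Nat.card_congr (MonoidHom.ofInjective hj).toEquiv.symm,
      JankoOneOrder.card_mdl] at h2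
    omega
  obtain ⟨z, rfl⟩ : x ∈ j.range := hr ▸ hx
  have hz1 : z ≠ 1 := fun e => hx1 (by rw [e, map_one])
  have hz2 : z * z = 1 := hj (by rw [map_mul, hx2, map_one])
  by_cases hzm : z = m1
  · exact hzm ▸ hm1
  obtain ⟨y, hy⟩ := invol_class z hz2 hz1 hzm
  have : z = y⁻¹ * (y * z * y⁻¹) * y⁻¹⁻¹ := by group
  rw [this]
  rcases hy with e | e <;> rw [e]
  · exact hclosed _ _ hA.1
  · exact hclosed _ _ hA.2

end Hyp

/-- Elementary subgroups of order eight consisting of conjugates of `t`. -/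
structure IsE (t : G) (E : Subgroup G) : Prop where
  card : Nat.card E = 8
  comm : ∀ a ∈ E, ∀ b ∈ E, Commute a b
  cls : ∀ a ∈ E, a ≠ 1 → IsConj t a

/-- An embedding of the model adapted to `E`. -/
structure Frame (t : G) (E : Subgroup G) where
  j : Mdl →* G
  inj : Function.Injective j
  range : j.range = Wt t
  mem : ∀ x, x ∈ E ↔ ∃ z ∈ eList, j z = x
  top : j m1 = t

namespace IsE

variable {t : G} {E : Subgroup G}

theorem of_isConj (hE : IsE t E) {d : G} (hd : IsConj t d) : IsE d E :=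
  ⟨hE.card, hE.comm, fun a ha h1 => hd.symm.trans (hE.cls a ha h1)⟩

theorem map (hE : IsE t E) (g : G) : IsE t (E.map (MulAut.conj g).toMonoidHom) where
  card := by rw [card_map_of_injective (MulEquiv.injective _), hE.card]
  comm := by
    rintro _ ⟨a, ha, rfl⟩ _ ⟨b, hb, rfl⟩
    exact (hE.comm a ha b hb).map _
  cls := by
    rintro _ ⟨a, ha, rfl⟩ h1
    exact (hE.cls a ha fun e => h1 (by rw [e, map_one])).trans (isConj_iff.mpr ⟨g, rfl⟩)

theorem le_Wt (hE : IsE t E) {d : G} (hd : d ∈ E) (hd1 : d ≠ 1) : E ≤ Wt d := fun x hx => by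
  by_cases hx1 : x = 1
  · exact hx1 ▸ one_mem _
  · exact mem_Wt ((hE.cls d hd hd1).symm.trans (hE.cls x hx hx1)) (hE.comm x hx d hd)

end IsE

variable [Finite G] {t : G}

/-- The model Sylow 2-subgroup. -/
def eSub : Subgroup Mdl where
  carrier := {z | z ∈ eList}
  mul_mem' ha hb := eList_mul _ ha _ hb
  one_mem' := List.mem_cons_self
  inv_mem' {a} ha := by
    show a⁻¹ ∈ eList
    rw [inv_eq_of_mul_eq_one_right (eList_sq a ha)]; exact ha

theorem card_eSub : Nat.card eSub = 8 := by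
  show Nat.card {z : Mdl // z ∈ eList} = 8
  rw [Nat.card_congr (eList_nodup.getEquiv).symm, Nat.card_fin]
  rfl

theorem mdl_fac : (Nat.card Mdl).factorization 2 = 3 := by
  rw [JankoOneOrder.card_mdl, Nat.factorization_def _ Nat.prime_two, show (120 : ℕ) = 2 ^ 3 * 15 by norm_num,
    padicValNat.mul (by norm_num) (by norm_num), @padicValNat.prime_pow 2 ⟨Nat.prime_two⟩,
    padicValNat.eq_zero_of_not_dvd (by norm_num : ¬ 2 ∣ 15)]

omit [Finite G] in
theorem Hyp.exists_frame (h : Hyp G t) {E : Subgroup G} (hE : IsE t E) (ht : t ∈ E) : Nonempty (Frame t E) := by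
  have : Fact (Nat.Prime 2) := ⟨Nat.prime_two⟩
  obtain ⟨j, hj, hr, hm⟩ := h.exists_hom
  have hEr : E ≤ j.range := hr ▸ hE.le_Wt ht h.ne_one
  have hcard : Nat.card (E.comap j) = 8 := by
    rw [← hE.card, ← card_map_of_injective hj, map_comap_eq_self hEr]
  let A : Sylow 2 Mdl := Sylow.ofCard eSub (by rw [card_eSub, mdl_fac]; norm_num)
  let B : Sylow 2 Mdl := Sylow.ofCard (E.comap j) (by rw [hcard, mdl_fac]; norm_num)
  obtain ⟨g, hg⟩ := MulAction.exists_smul_eq Mdl A B
  let j' := j.comp (MulAut.conj g).toMonoidHom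
  have hsurj : Function.Surjective (MulAut.conj g : Mdl ≃* Mdl) := MulEquiv.surjective _
  refine ⟨⟨j', hj.comp (MulEquiv.injective _), ?_, fun x => ⟨fun hx => ?_, ?_⟩, ?_⟩⟩
  · rw [← hr]
    refine le_antisymm (fun x ⟨z, hz⟩ => ⟨_, hz⟩) fun x ⟨z, hz⟩ => ?_
    obtain ⟨z', rfl⟩ := hsurj z
    exact ⟨z', hz⟩
  · obtain ⟨z, rfl⟩ := hEr hx
    have hzB : z ∈ (B : Subgroup Mdl) := hx
    rw [← hg] at hzB
    obtain ⟨w, hw, rfl⟩ := hzB
    exact ⟨w, hw, rfl⟩
  · rintro ⟨z, hz, rfl⟩
    have hzB : g * z * g⁻¹ ∈ (B : Subgroup Mdl) := by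
      rw [← hg]; exact ⟨z, hz, rfl⟩
    exact hzB
  · show j (g * m1 * g⁻¹) = t
    rw [← JankoOneOrder.m1_central g, mul_inv_cancel_right, hm]

theorem Hyp.exists_isE (h : Hyp G t) : ∃ E, IsE t E ∧ t ∈ E := by
  obtain ⟨j, hj, hr, hm⟩ := h.exists_hom
  refine ⟨eSub.map j, ⟨by rw [card_map_of_injective hj, card_eSub], ?_, ?_⟩,
    m1, (show m1 ∈ eList by simp [eList]), hm⟩
  · rintro _ ⟨a, ha, rfl⟩ _ ⟨b, hb, rfl⟩
    refine (show Commute a b from ?_).map j
    calc a * b = (a * b)⁻¹ := (inv_eq_of_mul_eq_one_right (eList_sq _ (eList_mul a ha b hb))).symm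
      _ = b * a := by rw [mul_inv_rev, inv_eq_of_mul_eq_one_right (eList_sq a ha), inv_eq_of_mul_eq_one_right (eList_sq b hb)]
  · rintro _ ⟨a, ha, rfl⟩ h1
    exact h.invol_conj (hr ▸ ⟨a, rfl⟩) (by rw [← map_mul, eList_sq a ha, map_one]) h1

namespace Frame

variable {E : Subgroup G} (F : Frame t E)
include F

omit [Finite G] in
theorem j_mem (z : Mdl) : F.j z ∈ Wt t := F.range ▸ ⟨z, rfl⟩

omit [Finite G] in
theorem t_mem : t ∈ E := (F.mem t).mpr ⟨m1, by simp [eList], F.top⟩

omit [Finite G] in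
theorem exists_preimage {c : G} (hc : c ∈ centralizer ({t} : Set G)) (z : Mdl) :
    ∃ z', F.j z' = c * F.j z * c⁻¹ := by
  have h : c * F.j z * c⁻¹ ∈ F.j.range := F.range.symm ▸ conj_mem_Wt hc (F.j_mem z)
  exact h

omit [Finite G] F in
theorem top_eq (z : Mdl) (H : Subgroup Mdl) (hgen : ∀ g ∈ [m1, ma, mb, mx, mu], g ∈ H) : z ∈ H := by
  have hm1 : m1 ∈ H := hgen m1 (by simp)
  have hv : ∀ v ∈ vList, v ∈ H := by
    intro v hv
    have h1 := hgen ma (by simp)
    have h2 := hgen mb (by simp)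
    simp only [vList, List.mem_cons, List.not_mem_nil, or_false] at hv
    rcases hv with rfl | rfl | rfl | rfl
    exacts [one_mem _, h1, h2, mul_mem h1 h2]
  have hA : ∀ a ∈ a4List, a ∈ H := by
    intro a ha
    simp only [a4List, List.mem_append, List.mem_map] at ha
    rcases ha with (ha | ⟨v, hv', rfl⟩) | ⟨v, hv', rfl⟩
    · exact hv a ha
    · exact mul_mem (hv v hv') (hgen mx (by simp))
    · exact mul_mem (hv v hv') (mul_mem (hgen mx (by simp)) (hgen mx (by simp)))
  have hz := mem_allList z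
  simp only [allList, List.mem_append, List.mem_map, List.mem_flatMap] at hz
  rcases hz with (hz | ⟨a, ha, b, hb, rfl⟩) | ⟨w, (hw | ⟨a, ha, b, hb, rfl⟩), rfl⟩
  · exact hA z hz
  · exact mul_mem (mul_mem (hA a ha) (hgen mu (by simp))) (hA b hb)
  · exact mul_mem hm1 (hA w hw)
  · exact mul_mem hm1 (mul_mem (mul_mem (hA a ha) (hgen mu (by simp))) (hA b hb))

omit [Finite G] in
theorem commute_of_mem {k : G} (hk : k ∈ centralizer (E : Set G)) {z : Mdl} (hz : z ∈ eList) :
    Commute (F.j z) k := mem_centralizer_iff.mp hk _ ((F.mem _).mpr ⟨z, hz, rfl⟩)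

omit [Finite G] in
theorem centralizer_le : centralizer (E : Set G) ≤ centralizer ({t} : Set G) := fun k hk =>
  mem_centralizer_singleton_iff.mpr (mem_centralizer_iff.mp hk t F.t_mem).symm

omit [Finite G] in
/-- The centraliser of `E` is the product of `E` and the centraliser of the weak closure. -/
theorem cent_split {k : G} (hk : k ∈ centralizer (E : Set G)) :
    ∃ z ∈ E, z * k ∈ centralizer (Wt t : Set G) := by
  have hkC := F.centralizer_le hk
  obtain ⟨y, hy⟩ := F.exists_preimage hkC mx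
  obtain ⟨z, hz⟩ := F.exists_preimage hkC mu
  obtain ⟨gx, gu, gxu, gau, -, -, -, -, -⟩ := gen_facts
  have hfix : ∀ e ∈ eList, k * F.j e * k⁻¹ = F.j e := fun e he => by
    rw [(F.commute_of_mem hk he).symm.eq, mul_inv_cancel_right]
  have hma : ma ∈ eList := by simp [eList]
  have hmb : mb ∈ eList := by simp [eList]
  have r1 : y * y * y = 1 := F.inj (by rw [map_mul, map_mul, hy, conj_mul, conj_mul, ← map_mul, ← map_mul, gx, map_one, mul_one, mul_inv_cancel])
  have rmove : ∀ e ∈ eList, y * e = mx * e * mx⁻¹ * y := fun e he => F.inj (by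
    rw [map_mul, map_mul, hy, ← hfix e he, ← hfix (mx * e * mx⁻¹) (mx_eList e he), conj_mul, conj_mul,
      ← map_mul, ← map_mul, inv_mul_cancel_right])
  have r2 : z * z = 1 := F.inj (by rw [map_mul, hz, conj_mul, ← map_mul, gu, map_one, mul_one, mul_inv_cancel])
  have r3 : z * y * z = y⁻¹ := F.inj (by
    rw [map_mul, map_mul, map_inv, hy, hz, conj_mul, conj_mul, ← map_mul, ← map_mul, gxu, map_inv, conj_inv])
  have r4 : (ma * z) * (ma * z) * (ma * z) = 1 := F.inj (by
    rw [map_mul, map_mul, map_mul, hz, ← hfix ma hma, conj_mul, conj_mul, conj_mul, ← map_mul, ← map_mul, ← map_mul,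
      gau, map_one, mul_one, mul_inv_cancel])
  obtain ⟨v, hv, rfl, rfl⟩ := rigid y r1 (rmove ma hma) (rmove mb hmb) z r2 r3 r4
  have hvE : v ∈ eList := by
    simp only [vList, List.mem_cons, List.not_mem_nil, or_false] at hv
    rcases hv with rfl | rfl | rfl | rfl <;> simp [eList]
  have hvv := eList_sq v hvE
  refine ⟨F.j v, (F.mem _).mpr ⟨v, hvE, rfl⟩, ?_⟩
  let H : Subgroup Mdl := (centralizer ({F.j v * k} : Set G)).comap F.j
  have hvk : ∀ (w : Mdl), k * F.j w * k⁻¹ = F.j (v * w * v) → w ∈ H := by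
    intro w hw
    refine mem_centralizer_singleton_iff.mpr ?_
    have h1 : k * F.j w = F.j (v * w * v) * k := mul_inv_eq_iff_eq_mul.mp hw
    rw [mul_assoc (F.j v) k, h1]
    simp only [← mul_assoc, ← map_mul]
    rw [hvv, one_mul]
  have hgen : ∀ g ∈ [m1, ma, mb, mx, mu], g ∈ H := by
    intro g hg
    simp only [List.mem_cons, List.not_mem_nil, or_false] at hg
    have hEg : g ∈ eList → g ∈ H := fun hge => mem_centralizer_singleton_iff.mpr
      ((((show Commute g v from by
          calc g * v = (g * v)⁻¹ := (inv_eq_of_mul_eq_one_right (eList_sq _ (eList_mul g hge v hvE))).symm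
            _ = v * g := by rw [mul_inv_rev, inv_eq_of_mul_eq_one_right (eList_sq g hge), inv_eq_of_mul_eq_one_right hvv]
          ).map F.j).mul_right (F.commute_of_mem hk hge)).eq)
    rcases hg with rfl | rfl | rfl | rfl | rfl
    · exact hEg (by simp [eList])
    · exact hEg hma
    · exact hEg hmb
    · exact hvk _ hy.symm
    · exact hvk _ hz.symm
  refine mem_centralizer_iff.mpr fun w hw => ?_
  rw [← F.range] at hw
  obtain ⟨w, rfl⟩ := hw
  exact mem_centralizer_singleton_iff.mp (top_eq w H hgen)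

omit [Finite G] in
/-- The centraliser of `t` in the weak closure, and its centre. -/
theorem centre_mem {z : G} (hz : z ∈ Wt t) (hzc : z ∈ centralizer (Wt t : Set G)) : z = 1 ∨ z = t := by
  obtain ⟨w, rfl⟩ : z ∈ F.j.range := F.range.symm ▸ hz
  rcases JankoOneOrder.central_eq w (fun y => F.inj (by
    rw [map_mul, map_mul]; exact (mem_centralizer_iff.mp hzc _ (F.j_mem y)).symm)) with rfl | rfl
  · exact Or.inl (map_one _)
  · exact Or.inr F.top

end Frame

end Cfsg.Agent.J1Closure
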