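/-
An element of order seven modulo `C(E)` in the normaliser of an elementary subgroup of order eight.
Main results: `Hyp.exists_seven`, `Hyp.cent_eq_mul`.
-/
import Cfsg.Agent.Lib.J1Closure.Local
import Cfsg.Agent.Lib.OrderJanko.Tools

set_option autoImplicit false

namespace Cfsg.Agent.J1Closure

open Subgroup
open JankoOneOrder (Mdl m1)

variable {G : Type*} [Group G] [Finite G] {t : G} {E : Subgroup G}

/-- An element inducing a permutation of order seven on `E`. -/
structure Seven (t : G) (E : Subgroup G) (x n : G) : Prop where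
  norm : n ∈ normalizer (E : Set G)
  gen : n ∈ normalClosure ({t} : Set G)
  fpf : ∀ e ∈ E, n * e * n⁻¹ = e → e = 1
  trans : ∀ a ∈ E, a ≠ 1 → ∀ b ∈ E, b ≠ 1 → ∃ i : ℕ, n ^ i * a * (n ^ i)⁻¹ = b
  moves : ∀ l ∈ centralizer (E : Set G), n * l * n⁻¹ * l⁻¹ ∈ E
  twist : ∃ i : ℕ, x⁻¹ * n * x * (n ^ i)⁻¹ ∈ centralizer (E : Set G)
  fix : ∀ u, (∀ y ∈ E, y ≠ 1 → u ∈ centralizer (Wt y : Set G)) → Commute n u

omit [Finite G] in
theorem conj_mem_cent {g m : G} (hg : g ∈ normalizer (E : Set G)) (hm : m ∈ centralizer (E : Set G)) :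
    g * m * g⁻¹ ∈ centralizer (E : Set G) := by
  refine mem_centralizer_iff.mpr fun e he => ?_
  have he' : g⁻¹ * e * g ∈ E := by
    have := (mem_normalizer_iff.mp (inv_mem hg) e).mp he
    rwa [inv_inv] at this
  have h := mem_centralizer_iff.mp hm _ he'
  calc e * (g * m * g⁻¹) = g * (g⁻¹ * e * g * m) * g⁻¹ := by group
    _ = g * m * g⁻¹ * e := by rw [h]; group

/-- An automorphism of order seven of a group of order eight is transitive on the non-identity elements. -/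
theorem order_seven_aut {P : Type*} [Group P] [Finite P] (hP : Nat.card P = 8) {r : MulAut P}
    (hr : orderOf r = 7) :
    (∀ q : P, r • q = q → q = 1) ∧ ∀ a : P, a ≠ 1 → ∀ b : P, b ≠ 1 → ∃ i : Fin 7, ((r ^ i.1) • a : P) = b := by
  classical
  have : Fact (Nat.Prime 7) := ⟨by norm_num⟩
  have h1 := OrderJanko.card_fixed_mod (X := P) hr
  have h2 := OrderJanko.card_fixed_le (X := P) r
  rw [hP] at h1 h2
  have h3 : Nat.card {q : P // r • q = q} ≠ 8 := fun h => by
    have hone : r = 1 := MulEquiv.ext fun q => by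
      obtain ⟨s, hs⟩ := ((Subtype.val_injective (p := fun q : P => r • q = q)).bijective_of_nat_card_le
        (by rw [h, hP])).2 q
      exact hs ▸ s.2
    rw [hone, orderOf_one] at hr
    omega
  have hfix : ∀ u : P, r • u = u → u = 1 := by
    intro u hu
    have hone : Nat.card {q : P // r • q = q} = 1 := by omega
    obtain ⟨hsub, -⟩ := Nat.card_eq_one_iff_unique.mp hone
    exact congrArg Subtype.val (hsub.elim (⟨u, hu⟩ : {q : P // r • q = q}) ⟨1, map_one r⟩)
  refine ⟨hfix, fun a ha b hb => ?_⟩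
  have hnf : r • a ≠ a := fun h => ha (hfix a h)
  let f : Fin 7 → {q : P // q ≠ 1} := fun i => ⟨(r ^ i.1) • a, fun h =>
    ha (smul_left_cancel (r ^ i.1) (h.trans (map_one (r ^ i.1)).symm))⟩
  have key : ∀ i j : Fin 7, i.1 ≤ j.1 → (r ^ i.1) • a = (r ^ j.1) • a → i = j := by
    intro i j hij e
    rcases Nat.eq_or_lt_of_le hij with h | h
    · exact Fin.ext h
    rw [show j.1 = i.1 + (j.1 - i.1) by omega, pow_add, mul_smul] at e
    exact absurd (OrderJanko.smul_eq_of_pow_smul_eq hr (k := j.1 - i.1) (by omega) (by omega)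
      (smul_left_cancel _ e).symm) hnf
  have hinj : Function.Injective f := by
    intro i j e
    have e' := congrArg Subtype.val e
    rcases Nat.le_total i.1 j.1 with hij | hij
    · exact key i j hij e'
    · exact (key j i hij e'.symm).symm
  have hcard : Nat.card {q : P // q ≠ 1} ≤ Nat.card (Fin 7) := by
    let := Fintype.ofFinite P
    rw [Nat.card_fin, Nat.card_eq_fintype_card, Fintype.card_subtype_compl, Fintype.card_subtype_eq,
      ← Nat.card_eq_fintype_card, hP]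
  obtain ⟨i, hi⟩ := (hinj.bijective_of_nat_card_le hcard).2 ⟨b, hb⟩
  exact ⟨i, congrArg Subtype.val hi⟩

omit [Finite G] in
theorem Hyp.conj_isE (h : Hyp G t) {E' : Subgroup G} (hE : IsE t E) (hE' : IsE t E') (ht : t ∈ E) (ht' : t ∈ E') :
    ∃ w ∈ Wt t, E'.map (MulAut.conj w).toMonoidHom = E := by
  have : Fact (Nat.Prime 2) := ⟨Nat.prime_two⟩
  obtain ⟨F⟩ := h.exists_frame hE ht
  have hEr : E' ≤ F.j.range := F.range ▸ hE'.le_Wt ht' h.ne_one
  have hcard : Nat.card (E'.comap F.j) = 8 := by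
    rw [← hE'.card, ← card_map_of_injective F.inj, map_comap_eq_self hEr]
  let A : Sylow 2 Mdl := Sylow.ofCard eSub (by rw [card_eSub, mdl_fac]; norm_num)
  let B : Sylow 2 Mdl := Sylow.ofCard (E'.comap F.j) (by rw [hcard, mdl_fac]; norm_num)
  obtain ⟨g, hg⟩ := MulAction.exists_smul_eq Mdl B A
  refine ⟨F.j g, F.range ▸ ⟨g, rfl⟩, ?_⟩
  ext x
  constructor
  · rintro ⟨e, he, rfl⟩
    obtain ⟨z, rfl⟩ := hEr he
    have hz : g * z * g⁻¹ ∈ (A : Subgroup Mdl) := by rw [← hg]; exact ⟨z, he, rfl⟩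
    exact (F.mem _).mpr ⟨_, hz, by rw [map_mul, map_mul, map_inv]; rfl⟩
  · intro hx
    obtain ⟨z, hz, rfl⟩ := (F.mem x).mp hx
    have hz' : z ∈ (g • B : Sylow 2 Mdl) := by rw [hg]; exact hz
    obtain ⟨w, hw, rfl⟩ := hz'
    exact ⟨F.j w, hw, by show F.j g * F.j w * (F.j g)⁻¹ = _; rw [← map_inv, ← map_mul, ← map_mul]; rfl⟩

/-- The normaliser of `E` moves `t` to each non-identity element of `E`. -/
theorem Hyp.exists_norm (h : Hyp G t) (hE : IsE t E) {a : G} (ha : a ∈ E) (ha1 : a ≠ 1) :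
    ∃ g ∈ normalizer (E : Set G), g * t * g⁻¹ = a ∨ t ∉ E := by
  by_cases ht : t ∈ E
  swap
  · exact ⟨1, one_mem _, Or.inr ht⟩
  obtain ⟨g, hg⟩ := isConj_iff.mp (hE.cls a ha ha1)
  have ha' := h.conj (hE.cls a ha ha1)
  obtain ⟨w, hw, hwE⟩ := ha'.conj_isE (hE.of_isConj (hE.cls a ha ha1)) ((hE.map g).of_isConj (hE.cls a ha ha1))
    ha ⟨t, ht, hg⟩
  refine ⟨w * g, mem_normalizer_fintype fun x hx => ?_, Or.inl ?_⟩
  · rw [← hwE]
    exact ⟨g * x * g⁻¹, ⟨x, hx, rfl⟩, by show w * (g * x * g⁻¹) * w⁻¹ = _; group⟩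
  · have hc := mem_centralizer_singleton_iff.mp (Wt_le a hw)
    calc w * g * t * (w * g)⁻¹ = w * (g * t * g⁻¹) * w⁻¹ := by group
      _ = a := by rw [hg, hc, mul_inv_cancel_right]

omit [Finite G] in
/-- Elements fixing `t` preserve the simple factor on `E`. -/
theorem Frame.factor_perm (F : Frame t E) {n : G} (hn : n ∈ normalizer (E : Set G))
    (hnt : n ∈ centralizer ({t} : Set G)) {v : Mdl} (hv : v ∈ [ma, mb, ma * mb]) :
    ∃ v' ∈ [ma, mb, ma * mb], F.j v' = n * F.j v * n⁻¹ := by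
  obtain ⟨-, -, -, -, -, ha1, hb1, haa, hbb⟩ := gen_facts
  have hvE : v ∈ eList ∧ v ≠ 1 ∧ v.1 = 1 := by
    simp only [List.mem_cons, List.not_mem_nil, or_false] at hv
    rcases hv with rfl | rfl | rfl
    · exact ⟨by simp [eList], ha1, rfl⟩
    · exact ⟨by simp [eList], hb1, rfl⟩
    · refine ⟨by simp [eList], ?_, rfl⟩
      decide +kernel
  obtain ⟨hvE, hv1, hvf⟩ := hvE
  have hmem : n * F.j v * n⁻¹ ∈ E := (mem_normalizer_iff.mp hn _).mp ((F.mem _).mpr ⟨v, hvE, rfl⟩)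
  obtain ⟨v', hv', he⟩ := (F.mem _).mp hmem
  have hv'1 : v' ≠ 1 := fun e => hv1 (F.inj (by
    rw [map_one]; rw [e, map_one] at he; exact conj_eq_one_iff.mp he.symm))
  refine ⟨v', eList_fst v' hv' hv'1 ?_, he⟩
  obtain ⟨y, hy3, hy⟩ := (fst_char v (eList_sq v hvE) hv1).1 hvf
  obtain ⟨y', hy'⟩ := F.exists_preimage hnt y
  refine (fst_char v' (eList_sq v' hv') hv'1).2 y' (F.inj ?_) (F.inj ?_)
  · rw [map_mul, map_mul, hy', conj_mul, conj_mul, ← map_mul, ← map_mul, hy3, map_one, mul_one, mul_inv_cancel]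
  · rw [map_mul, map_mul, map_mul, hy', he, conj_mul, conj_mul, conj_mul, ← map_mul, ← map_mul, ← map_mul, hy,
      map_one, mul_one, mul_inv_cancel]

/-- The image of the normaliser in the automorphisms of `E`. -/
theorem Hyp.image_facts (h : Hyp G t) (hE : IsE t E) (F : Frame t E) :
    ∃ r : MulAut E, r ∈ (E.normalizerMonoidHom).range ∧ orderOf r = 7 ∧
      ∀ φ ∈ (E.normalizerMonoidHom).range, φ * r * φ⁻¹ ∈ zpowers r := by
  classical
  have : Fact (Nat.Prime 7) := ⟨by norm_num⟩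
  have ht := F.t_mem
  set I := (E.normalizerMonoidHom).range with hI
  let tE : E := ⟨t, ht⟩
  have htE : tE ≠ 1 := fun e => h.ne_one (congrArg Subtype.val e)
  have horb : MulAction.orbit I tE = {q : E | q ≠ 1} := by
    ext q
    constructor
    · rintro ⟨φ, rfl⟩ e
      exact htE (smul_left_cancel (φ : MulAut E) (e.trans (map_one (φ : MulAut E)).symm))
    · intro hq
      obtain ⟨g, hg, hgt⟩ := h.exists_norm hE q.2 (fun e => hq (Subtype.ext e))
      exact ⟨⟨_, ⟨g, hg⟩, rfl⟩, Subtype.ext (hgt.resolve_right (fun e => e ht))⟩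
  have horb7 : Nat.card (MulAction.orbit I tE) = 7 := by
    let := Fintype.ofFinite E
    rw [horb]
    show Nat.card {q : E // q ≠ 1} = 7
    rw [Nat.card_eq_fintype_card, Fintype.card_subtype_compl, Fintype.card_subtype_eq, ← Nat.card_eq_fintype_card,
      hE.card]
  set St := MulAction.stabilizer I tE with hSt
  have hv : ∀ v ∈ [ma, mb, ma * mb], v ∈ eList := by decide +kernel
  let vA : E := ⟨F.j ma, (F.mem _).mpr ⟨ma, hv _ (by simp), rfl⟩⟩
  let vB : E := ⟨F.j mb, (F.mem _).mpr ⟨mb, hv _ (by simp), rfl⟩⟩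
  let vC : E := ⟨F.j (ma * mb), (F.mem _).mpr ⟨ma * mb, hv _ (by simp), rfl⟩⟩
  have hgenE : ∀ φ ψ : MulAut E, φ tE = ψ tE → φ vA = ψ vA → φ vB = ψ vB → φ = ψ := by
    intro φ ψ h1 h2 h3
    ext ⟨x, hx⟩
    let Q : Subgroup E := φ.toMonoidHom.eqLocus ψ.toMonoidHom
    have hQ : ∀ z ∈ eList, ∀ hz : F.j z ∈ E, (⟨F.j z, hz⟩ : E) ∈ Q := by
      have hone : (1 : E) ∈ Q := one_mem Q
      have e1 : tE ∈ Q := h1
      have e2 : vA ∈ Q := h2
      have e3 : vB ∈ Q := h3
      intro z hz hzE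
      simp only [eList, List.mem_cons, List.not_mem_nil, or_false] at hz
      rcases hz with rfl | rfl | rfl | rfl | rfl | rfl | rfl | rfl
      · rwa [show (⟨F.j 1, hzE⟩ : E) = 1 from Subtype.ext (map_one F.j)]
      · rwa [show (⟨F.j m1, hzE⟩ : E) = tE from Subtype.ext F.top]
      · exact e2
      · exact e3
      · rw [show (⟨F.j (ma * mb), hzE⟩ : E) = vA * vB from Subtype.ext (map_mul F.j ma mb)]
        exact mul_mem e2 e3
      · rw [show (⟨F.j (m1 * ma), hzE⟩ : E) = tE * vA from Subtype.ext (show F.j (m1 * ma) = t * F.j ma by rw [map_mul, F.top])]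
        exact mul_mem e1 e2
      · rw [show (⟨F.j (m1 * mb), hzE⟩ : E) = tE * vB from Subtype.ext (show F.j (m1 * mb) = t * F.j mb by rw [map_mul, F.top])]
        exact mul_mem e1 e3
      · rw [show (⟨F.j (m1 * (ma * mb)), hzE⟩ : E) = tE * (vA * vB) from
          Subtype.ext (show F.j (m1 * (ma * mb)) = t * (F.j ma * F.j mb) by rw [map_mul, map_mul, F.top])]
        exact mul_mem e1 (mul_mem e2 e3)
    obtain ⟨z, hz, rfl⟩ := (F.mem x).mp hx
    exact congrArg Subtype.val (hQ z hz hx)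
  have hS6 : Nat.card St ≤ 6 := by
    let V : Fin 3 → E := ![vA, vB, vC]
    have hmem : ∀ φ : St, ∀ i : Fin 3, ∃ k : Fin 3, (φ.1 : MulAut E) (V i) = V k := by
      rintro ⟨⟨φ, n, rfl⟩, hφ⟩ i
      have hnt : (n : G) ∈ centralizer ({t} : Set G) := mem_centralizer_singleton_iff.mpr
        (mul_inv_eq_iff_eq_mul.mp (congrArg Subtype.val (MulAction.mem_stabilizer_iff.mp hφ)))
      have hlist : ∀ i : Fin 3, ∀ (v : Mdl), v = ![ma, mb, ma * mb] i → v ∈ [ma, mb, ma * mb] ∧
          (V i : G) = F.j v := by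
        intro i v hv'
        subst hv'
        fin_cases i <;> simp [V, vA, vB, vC]
      obtain ⟨hl, hV⟩ := hlist i _ rfl
      obtain ⟨v', hv', he⟩ := F.factor_perm n.2 hnt hl
      simp only [List.mem_cons, List.not_mem_nil, or_false] at hv'
      rcases hv' with e | e | e <;> subst e
      · exact ⟨0, Subtype.ext (by show (n : G) * (V i : G) * (n : G)⁻¹ = _; rw [hV, ← he]; rfl)⟩
      · exact ⟨1, Subtype.ext (by show (n : G) * (V i : G) * (n : G)⁻¹ = _; rw [hV, ← he]; rfl)⟩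
      · exact ⟨2, Subtype.ext (by show (n : G) * (V i : G) * (n : G)⁻¹ = _; rw [hV, ← he]; rfl)⟩
    choose k hk using hmem
    have hne : ∀ φ : St, k φ 0 ≠ k φ 1 := by
      intro φ e
      have h1 := (hk φ 0).trans ((congrArg V e).trans (hk φ 1).symm)
      have h2 := F.inj (congrArg Subtype.val ((φ.1 : MulAut E).injective h1))
      revert h2
      decide +kernel
    let f : St → {p : Fin 3 × Fin 3 // p.1 ≠ p.2} := fun φ => ⟨(k φ 0, k φ 1), hne φ⟩
    have hf : Function.Injective f := by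
      intro φ ψ e
      have e' := congrArg Subtype.val e
      refine Subtype.ext (Subtype.ext (hgenE _ _ ?_ ?_ ?_))
      · exact (MulAction.mem_stabilizer_iff.mp φ.2).trans (MulAction.mem_stabilizer_iff.mp ψ.2).symm
      · exact (hk φ 0).trans ((congrArg (fun p : Fin 3 × Fin 3 => V p.1) e').trans (hk ψ 0).symm)
      · exact (hk φ 1).trans ((congrArg (fun p : Fin 3 × Fin 3 => V p.2) e').trans (hk ψ 1).symm)
    refine (Nat.card_le_card_of_injective f hf).trans ?_
    rw [Nat.card_eq_fintype_card]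
    decide
  have hIcard : Nat.card I = 7 * Nat.card St := by
    rw [← St.card_mul_index, hSt, MulAction.index_stabilizer, ← Nat.card_coe_set_eq, horb7, mul_comm]
  obtain ⟨r, hr⟩ := exists_prime_orderOf_dvd_card' (G := I) 7 (hIcard ▸ dvd_mul_right 7 _)
  have hs0 : 0 < Nat.card St := Nat.card_pos
  have hfac : (Nat.card I).factorization 7 = 1 := by
    have hn7 : ¬ 7 ∣ Nat.card St := fun h => by
      have := Nat.le_of_dvd hs0 h
      omega
    rw [hIcard, Nat.factorization_def _ (Fact.out : Nat.Prime 7), padicValNat.mul (by norm_num) (by omega),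
      padicValNat.self (by norm_num), padicValNat.eq_zero_of_not_dvd hn7]
  let R : Sylow 7 I := Sylow.ofCard (zpowers r) (by rw [Nat.card_zpowers, hr, hfac, pow_one])
  have hR1 : Nat.card (Sylow 7 I) = 1 := by
    have h1 : Nat.card (Sylow 7 I) ∣ (R : Subgroup I).index := R.card_dvd_index
    have h2 : (R : Subgroup I).index = Nat.card St := by
      have := (R : Subgroup I).card_mul_index
      rw [show Nat.card ↥(R : Subgroup I) = 7 by show Nat.card ↥(zpowers r) = 7; rw [Nat.card_zpowers, hr],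
        hIcard] at this
      omega
    have h3 := Nat.le_of_dvd hs0 (h2 ▸ h1)
    have h4 := card_sylow_modEq_one 7 I
    unfold Nat.ModEq at h4
    omega
  refine ⟨r, r.2, by rw [Subgroup.orderOf_coe, hr], fun φ hφ => ?_⟩
  have hsub : Subsingleton (Sylow 7 I) := (Nat.card_eq_one_iff_unique.mp hR1).1
  have h5 : (⟨φ, hφ⟩ : I) * r * (⟨φ, hφ⟩ : I)⁻¹ ∈ (R : Subgroup I) := by
    rw [← Subsingleton.elim ((⟨φ, hφ⟩ : I) • R) R]
    exact ⟨r, mem_zpowers r, rfl⟩
  obtain ⟨i, hi⟩ := mem_zpowers_iff.mp (show _ ∈ zpowers r from h5)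
  exact mem_zpowers_iff.mpr ⟨i, by rw [← SubgroupClass.coe_zpow, hi]; rfl⟩

/-- An element of order seven modulo the centraliser of `E`, trivial on the common centralisers. -/
theorem Hyp.exists_seven (h : Hyp G t) (hE : IsE t E) (F : Frame t E) : ∃ n, Seven t E (F.j mx) n := by
  classical
  have : Fact (Nat.Prime 7) := ⟨by norm_num⟩
  obtain ⟨-, -, -, -, hxa, -, -, -, -⟩ := gen_facts
  obtain ⟨r, ⟨r', hr'⟩, hr, hnorm⟩ := h.image_facts hE F
  have hxN : F.j mx ∈ normalizer (E : Set G) := mem_normalizer_fintype fun e he => by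
    obtain ⟨z, hz, rfl⟩ := (F.mem e).mp he
    exact (F.mem _).mpr ⟨_, mx_eList z hz, by rw [map_mul, map_mul, map_inv]⟩
  set θ := E.normalizerMonoidHom with hθ
  let X : normalizer (E : Set G) := ⟨F.j mx, hxN⟩
  set n := r' * X * r'⁻¹ * X⁻¹ with hn
  have hxt : θ X • (⟨t, F.t_mem⟩ : E) = ⟨t, F.t_mem⟩ := Subtype.ext
    (mul_inv_eq_iff_eq_mul.mpr (mem_centralizer_singleton_iff.mp (Wt_le t (F.j_mem mx))))
  have hmemR : θ n ∈ zpowers r := by
    rw [hn, map_mul, map_mul, map_mul, map_inv, map_inv, hr', mul_assoc, mul_assoc, ← mul_assoc (θ X)]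
    refine mul_mem (mem_zpowers r) ?_
    have h2 := hnorm (θ X) ⟨X, rfl⟩
    have h3 := inv_mem h2
    simpa [mul_assoc] using h3
  have hne : θ n ≠ 1 := by
    intro h1
    rw [hn, map_mul, map_mul, map_mul, map_inv, map_inv, hr', mul_inv_eq_one, mul_inv_eq_iff_eq_mul] at h1
    -- then the element of order three fixes everything
    have hall : ∀ q : E, θ X • q = q := by
      intro q
      by_cases hq : q = 1
      · rw [hq]; exact map_one (θ X)
      obtain ⟨i, hi⟩ := (order_seven_aut hE.card hr).2 ⟨t, F.t_mem⟩ (fun e => h.ne_one (congrArg Subtype.val e)) q hq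
      have hc : Commute (θ X) (r ^ i.1) := ((show Commute r (θ X) from h1).symm).pow_right i.1
      rw [← hi, ← mul_smul, hc.eq, mul_smul, hxt]
    refine hxa (F.inj ?_)
    have h2 := congrArg Subtype.val (hall ⟨F.j ma, (F.mem _).mpr ⟨ma, by simp [eList], rfl⟩⟩)
    rw [map_mul, map_mul, map_inv]
    exact h2
  have hno : orderOf (θ n) = 7 := by
    refine orderOf_eq_prime ?_ hne
    obtain ⟨i, hi⟩ := mem_zpowers_iff.mp hmemR
    rw [← hi, ← zpow_natCast, ← zpow_mul, mul_comm, zpow_mul, zpow_natCast]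
    rw [← hr, pow_orderOf_eq_one, one_zpow]
  obtain ⟨hfpf, htrans⟩ := order_seven_aut hE.card hno
  have hxW : ∀ d : G, ∀ g, F.j mx ∈ Wt d → g * F.j mx * g⁻¹ ∈ Wt (g * d * g⁻¹) := fun d g hd =>
    Wt_map g d ▸ ⟨_, hd, rfl⟩
  have hval : (n : G) = (r' : G) * F.j mx * (r' : G)⁻¹ * (F.j mx)⁻¹ := rfl
  refine ⟨n, n.2, ?_, fun e he hfix => ?_, fun a ha ha1 b hb hb1 => ?_, fun l hl => ?_, ?_, fun u hu => ?_⟩
  · have hxN' : F.j mx ∈ normalClosure ({t} : Set G) := by
      have hle : Wt t ≤ normalClosure ({t} : Set G) := (closure_le _).mpr fun y hy => by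
        obtain ⟨g, rfl⟩ := isConj_iff.mp hy.1
        exact normalClosure_normal.conj_mem t (subset_normalClosure (Set.mem_singleton t)) g
      exact hle (F.j_mem mx)
    rw [hval]
    exact mul_mem (normalClosure_normal.conj_mem _ hxN' _) (inv_mem hxN')
  · exact congrArg Subtype.val (hfpf ⟨e, he⟩ (Subtype.ext hfix))
  · obtain ⟨i, hi⟩ := htrans ⟨a, ha⟩ (fun e => ha1 (congrArg Subtype.val e)) ⟨b, hb⟩ (fun e => hb1 (congrArg Subtype.val e))
    refine ⟨i.1, ?_⟩
    rw [← map_pow] at hi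
    exact congrArg Subtype.val hi
  · have hstep : ∀ m ∈ centralizer (E : Set G), F.j mx * m * (F.j mx)⁻¹ * m⁻¹ ∈ E := by
      intro m hm
      obtain ⟨z, hz, hzm⟩ := F.cent_split hm
      have hx2 : F.j mx * (z * m) = (z * m) * F.j mx := mem_centralizer_iff.mp hzm _ (F.j_mem mx)
      have e : F.j mx * m * (F.j mx)⁻¹ * m⁻¹ = (F.j mx * z * (F.j mx)⁻¹)⁻¹ * z :=
        calc F.j mx * m * (F.j mx)⁻¹ * m⁻¹
            = (F.j mx * z * (F.j mx)⁻¹)⁻¹ * ((F.j mx * (z * m)) * (F.j mx)⁻¹ * m⁻¹) := by group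
          _ = _ := by rw [hx2, mul_inv_cancel_right, mul_inv_cancel_right]
      rw [e]
      exact mul_mem (inv_mem ((mem_normalizer_iff.mp hxN z).mp hz)) hz
    have hl' : (F.j mx)⁻¹ * l * F.j mx ∈ centralizer (E : Set G) := by
      have := conj_mem_cent (inv_mem hxN) hl
      rwa [inv_inv] at this
    set l' := (F.j mx)⁻¹ * l * F.j mx with hl'def
    have h1 : l' * l⁻¹ ∈ E := by
      have h2 := inv_mem (hstep l' hl')
      rwa [show (F.j mx * l' * (F.j mx)⁻¹ * l'⁻¹)⁻¹ = l' * l⁻¹ by rw [hl'def]; group] at h2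
    have hm' : (r' : G)⁻¹ * l' * r' ∈ centralizer (E : Set G) := by
      have := conj_mem_cent (inv_mem r'.2) hl'
      rwa [inv_inv] at this
    have h2 := (mem_normalizer_iff.mp r'.2 _).mp (hstep _ hm')
    rw [show (n : G) * l * (n : G)⁻¹ * l⁻¹ =
      (r' : G) * (F.j mx * ((r' : G)⁻¹ * l' * r') * (F.j mx)⁻¹ * ((r' : G)⁻¹ * l' * r')⁻¹) * (r' : G)⁻¹ *
        (l' * l⁻¹) by rw [hval, hl'def]; group]
    exact mul_mem h2 h1
  · have hz : zpowers (θ n) = zpowers r := eq_of_le_of_card_ge (zpowers_le.mpr hmemR)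
      (by rw [Nat.card_zpowers, Nat.card_zpowers, hno, hr])
    have hconj : θ (X⁻¹ * n * X) ∈ zpowers (θ n) := by
      rw [hz, map_mul, map_mul, map_inv]
      obtain ⟨k, hk⟩ := mem_zpowers_iff.mp hmemR
      have h2 := zpow_mem (hnorm (θ X)⁻¹ (inv_mem ⟨X, rfl⟩)) k
      rw [conj_zpow, hk, inv_inv] at h2
      exact h2
    obtain ⟨i, hi⟩ := (isOfFinOrder_of_finite _).mem_powers_iff_mem_zpowers.mpr hconj
    refine ⟨i, ?_⟩
    have hi' : θ n ^ i = θ (X⁻¹ * n * X) := hi
    have hker : X⁻¹ * n * X * (n ^ i)⁻¹ ∈ θ.ker := by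
      rw [MonoidHom.mem_ker, map_mul, map_inv θ (n ^ i), map_pow, ← hi', mul_inv_cancel]
    rw [hθ, normalizerMonoidHom_ker] at hker
    exact mem_subgroupOf.mp hker
  · have hy : (r' : G) * t * (r' : G)⁻¹ ∈ E := (mem_normalizer_iff.mp r'.2 t).mp F.t_mem
    have hy1 : (r' : G) * t * (r' : G)⁻¹ ≠ 1 := fun e => h.ne_one (conj_eq_one_iff.mp e)
    have c1 : Commute (F.j mx) u := mem_centralizer_iff.mp (hu t F.t_mem h.ne_one) _ (F.j_mem mx)
    have c2 : Commute ((r' : G) * F.j mx * (r' : G)⁻¹) u :=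
      mem_centralizer_iff.mp (hu _ hy hy1) _ (hxW t r' (F.j_mem mx))
    rw [hval]
    exact c2.mul_left c1.inv_left

/-- An element of the normaliser fixing `t` and a second point of `E` centralises `E`. -/
theorem Hyp.two_point (h : Hyp G t) (hE : IsE t E) (F : Frame t E) {n : G}
    (hn : n ∈ normalizer (E : Set G)) (h1 : n * t * n⁻¹ = t) (h2 : n * F.j ma * n⁻¹ = F.j ma) :
    n ∈ centralizer (E : Set G) := by
  classical
  have : Fact (Nat.Prime 7) := ⟨by norm_num⟩
  obtain ⟨-, -, -, -, -, ha1, -, -, -⟩ := gen_facts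
  obtain ⟨r, -, hr, hnorm⟩ := h.image_facts hE F
  obtain ⟨hfpf, htrans⟩ := order_seven_aut hE.card hr
  let tE : E := ⟨t, F.t_mem⟩
  let aE : E := ⟨F.j ma, (F.mem _).mpr ⟨ma, by simp [eList], rfl⟩⟩
  have htE : tE ≠ 1 := fun e => h.ne_one (congrArg Subtype.val e)
  have haE : aE ≠ 1 := fun e => ha1 (F.inj ((congrArg Subtype.val e).trans (map_one F.j).symm))
  obtain ⟨i, hi⟩ := htrans tE htE aE haE
  set φ := E.normalizerMonoidHom ⟨n, hn⟩ with hφ
  set s : MulAut E := r ^ i.1 with hs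
  have hs0 : i.1 ≠ 0 := fun e => by
    rw [hs, e, pow_zero, one_smul] at hi
    have h3 : ma = m1 := F.inj (by rw [F.top]; exact (congrArg Subtype.val hi).symm)
    revert h3
    decide +kernel
  have hft : φ • tE = tE := Subtype.ext h1
  have hfa : φ • aE = aE := Subtype.ext h2
  have hs' : s⁻¹ * (φ * s * φ⁻¹) ∈ zpowers r := by
    refine mul_mem (inv_mem (pow_mem (mem_zpowers r) _)) ?_
    rw [hs, ← conj_pow]
    exact pow_mem (hnorm φ ⟨_, rfl⟩) _
  have hcomm : Commute φ s := by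
    obtain ⟨m, hm⟩ := (isOfFinOrder_of_finite r).mem_powers_iff_mem_zpowers.mpr hs'
    have hm' : r ^ (m % 7) = s⁻¹ * (φ * s * φ⁻¹) := by rw [← hr, pow_mod_orderOf]; exact hm
    have hfix : r ^ (m % 7) • tE = tE := by
      rw [hm', mul_smul, mul_smul, mul_smul, inv_smul_eq_iff.mpr hft.symm, hi, hfa, ← hi, inv_smul_smul]
    by_cases hm0 : m % 7 = 0
    · rw [hm0, pow_zero] at hm'
      exact mul_inv_eq_iff_eq_mul.mp (inv_mul_eq_one.mp hm'.symm).symm
    · exact absurd (hfpf _ (OrderJanko.smul_eq_of_pow_smul_eq hr (Nat.pos_of_ne_zero hm0)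
        (Nat.mod_lt _ (by norm_num)) hfix)) htE
  have hso : orderOf s = 7 := by
    rw [hs, orderOf_pow, hr, Nat.Coprime.gcd_eq_one ?_, Nat.div_one]
    exact (Nat.Prime.coprime_iff_not_dvd (by norm_num)).mpr
      fun hd => absurd (Nat.le_of_dvd (Nat.pos_of_ne_zero hs0) hd) (by omega)
  obtain ⟨-, hst⟩ := order_seven_aut hE.card hso
  refine mem_centralizer_iff.mpr fun e he => ?_
  by_cases he1 : e = 1
  · rw [he1, one_mul, mul_one]
  obtain ⟨j, hj⟩ := hst tE htE ⟨e, he⟩ (fun h => he1 (congrArg Subtype.val h))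
  have h3 : φ • (⟨e, he⟩ : E) = ⟨e, he⟩ := by
    rw [← hj, ← mul_smul, (hcomm.pow_right j.1).eq, mul_smul, hft]
  exact (mul_inv_eq_iff_eq_mul.mp (congrArg Subtype.val h3)).symm

/-- Every element centralising `t` is, up to the weak closure, in the centraliser of `E`. -/
theorem Hyp.cent_eq_mul (h : Hyp G t) (hE : IsE t E) (F : Frame t E) {c : G}
    (hc : c ∈ centralizer ({t} : Set G)) : ∃ w ∈ Wt t, w * c ∈ centralizer (E : Set G) := by
  have hct : c * t * c⁻¹ = t := by rw [mem_centralizer_singleton_iff.mp hc, mul_inv_cancel_right]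
  obtain ⟨w, hw, hwE⟩ := h.conj_isE hE (hE.map c) F.t_mem ⟨t, F.t_mem, hct⟩
  have hn : w * c ∈ normalizer (E : Set G) := mem_normalizer_fintype fun x hx => by
    rw [SetLike.mem_coe, ← hwE]
    exact ⟨c * x * c⁻¹, ⟨x, hx, rfl⟩, by show w * (c * x * c⁻¹) * w⁻¹ = _; group⟩
  have hnt : w * c ∈ centralizer ({t} : Set G) := mul_mem (Wt_le t hw) hc
  obtain ⟨v', hv', he⟩ := F.factor_perm hn hnt (v := ma) (by simp)
  obtain ⟨i, hi⟩ := mx_perm v' hv'
  have hxN : F.j mx ∈ normalizer (E : Set G) := mem_normalizer_fintype fun e he => by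
    obtain ⟨z, hz, rfl⟩ := (F.mem e).mp he
    exact (F.mem _).mpr ⟨_, mx_eList z hz, by rw [map_mul, map_mul, map_inv]⟩
  refine ⟨F.j mx ^ i.1 * w, mul_mem (pow_mem (F.j_mem mx) _) hw, ?_⟩
  rw [mul_assoc]
  refine h.two_point hE F (mul_mem (pow_mem hxN _) hn) ?_ ?_
  · rw [mem_centralizer_singleton_iff.mp (mul_mem (pow_mem (Wt_le t (F.j_mem mx)) _) hnt), mul_inv_cancel_right]
  · calc F.j mx ^ i.1 * (w * c) * F.j ma * (F.j mx ^ i.1 * (w * c))⁻¹
        = F.j mx ^ i.1 * (w * c * F.j ma * (w * c)⁻¹) * (F.j mx ^ i.1)⁻¹ := by group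
      _ = F.j ma := by rw [← he, ← map_pow, ← map_inv, ← map_mul, ← map_mul, hi]

end Cfsg.Agent.J1Closure
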