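/-
The common centraliser of the weak closures along an elementary subgroup of order eight.
Main results: `Hyp.cent_eq_hs`, `Hyp.cent_t_eq`, `Hyp.hs_eq_of_reach`.
-/
import Cfsg.Agent.Lib.J1Closure.Seven

set_option autoImplicit false

namespace Cfsg.Agent.J1Closure

open Subgroup
open JankoOneOrder (Mdl m1)

variable {G : Type*} [Group G]

/-- The common centraliser of the weak closures of the non-identity elements of `E`. -/
def Hs (E : Subgroup G) : Subgroup G := centralizer {x | ∃ y ∈ E, y ≠ 1 ∧ x ∈ Wt y}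

theorem mem_Hs {E : Subgroup G} {u : G} :
    u ∈ Hs E ↔ ∀ y ∈ E, y ≠ 1 → u ∈ centralizer (Wt y : Set G) := by
  constructor
  · exact fun hu y hy hy1 => mem_centralizer_iff.mpr fun w hw => mem_centralizer_iff.mp hu w ⟨y, hy, hy1, hw⟩
  · rintro hu
    exact mem_centralizer_iff.mpr fun w ⟨y, hy, hy1, hw⟩ => mem_centralizer_iff.mp (hu y hy hy1) w hw

theorem conj_mem_Hs {E E' : Subgroup G} {g u : G} (hg : ∀ y ∈ E', g⁻¹ * y * g ∈ E) (hu : u ∈ Hs E) :
    g * u * g⁻¹ ∈ Hs E' := by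
  refine mem_Hs.mpr fun y hy hy1 => ?_
  have h := conj_mem_centralizer_Wt (g := g) (mem_Hs.mp hu _ (hg y hy) fun e => hy1 (by
    have := congrArg (fun z => g * z * g⁻¹) e
    simpa [mul_assoc] using this))
  rwa [show g * (g⁻¹ * y * g) * g⁻¹ = y by group] at h

theorem normalizer_conj_mem_Hs {E : Subgroup G} {g u : G} (hg : g ∈ normalizer (E : Set G)) (hu : u ∈ Hs E) :
    g * u * g⁻¹ ∈ Hs E :=
  conj_mem_Hs (fun y hy => by
    have := (mem_normalizer_iff.mp (inv_mem hg) y).mp hy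
    rwa [inv_inv] at this) hu

/-- Adjacency of conjugates of `t`. -/
def Adj (t a b : G) : Prop := IsConj t a ∧ IsConj t b ∧ Commute a b

/-- Connectedness in the commuting graph of the conjugates of `t`. -/
def Reach (t : G) : G → G → Prop := Relation.ReflTransGen (Adj t)

variable [Finite G] {t : G} {E : Subgroup G}

omit [Finite G] in
theorem Hs_le_centralizer (hE : IsE t E) {y : G} (hy : y ∈ E) (hy1 : y ≠ 1) :
    Hs E ≤ centralizer (E : Set G) := fun _ hu =>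
  mem_centralizer_iff.mpr fun e he => mem_centralizer_iff.mp (mem_Hs.mp hu y hy hy1) e (hE.le_Wt hy hy1 he)

omit [Finite G] in
theorem Hyp.hs_inter (h : Hyp G t) (hE : IsE t E) (ht : t ∈ E) {u : G} (hu : u ∈ Hs E) (hW : u ∈ Wt t) :
    u = 1 := by
  obtain ⟨F⟩ := h.exists_frame hE ht
  obtain ⟨-, -, -, -, -, ha1, -, -, -⟩ := gen_facts
  rcases F.centre_mem hW (mem_Hs.mp hu t ht h.ne_one) with rfl | rfl
  · rfl
  exfalso
  have haE : F.j ma ∈ E := (F.mem _).mpr ⟨ma, by simp [eList], rfl⟩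
  have ha : F.j ma ≠ 1 := fun e => ha1 (F.inj (e.trans (map_one F.j).symm))
  have hc := hE.cls _ haE ha
  obtain ⟨F'⟩ := (h.conj hc).exists_frame (hE.of_isConj hc) haE
  rcases F'.centre_mem ((hE.le_Wt haE ha) ht) (mem_Hs.mp hu _ haE ha) with e | e
  · exact h.ne_one e
  · have : m1 = ma := F.inj (F.top.trans e)
    revert this
    decide +kernel

/-- The centraliser of `E` is the product of `E` and the common centraliser. -/
theorem Hyp.cent_eq_hs (h : Hyp G t) (hE : IsE t E) (F : Frame t E) {l : G}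
    (hl : l ∈ centralizer (E : Set G)) : ∃ z ∈ E, z * l ∈ Hs E := by
  classical
  have hsq : ∀ m ∈ centralizer (E : Set G), m * m ∈ Hs E := by
    intro m hm
    refine mem_Hs.mpr fun y hy hy1 => ?_
    obtain ⟨F'⟩ := (h.conj (hE.cls y hy hy1)).exists_frame (hE.of_isConj (hE.cls y hy hy1)) hy
    obtain ⟨z, hz, hzm⟩ := F'.cent_split hm
    have hzz : z * z = 1 := by
      by_cases hz1 : z = 1
      · rw [hz1, one_mul]
      · exact h.mul_self_of_isConj (hE.cls z hz hz1)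
    have hc : z * m = m * z := mem_centralizer_iff.mp hm z hz
    have h2 := mul_mem hzm hzm
    rwa [show z * m * (z * m) = z * z * (m * m) by
      calc z * m * (z * m) = z * (m * z) * m := by group
        _ = _ := by rw [← hc]; group, hzz, one_mul] at h2
  have hcomm : ∀ a ∈ centralizer (E : Set G), ∀ b ∈ centralizer (E : Set G), a * b * a⁻¹ * b⁻¹ ∈ Hs E := by
    intro a ha b hb
    rw [show a * b * a⁻¹ * b⁻¹ = a * a * ((a⁻¹ * b) * (a⁻¹ * b)) * (b⁻¹ * b⁻¹) by group]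
    exact mul_mem (mul_mem (hsq a ha) (hsq _ (mul_mem (inv_mem ha) hb))) (hsq _ (inv_mem hb))
  obtain ⟨n, hn⟩ := h.exists_seven hE F
  -- correct `l` to a fixed point of `n`
  let f : E → E := fun e => ⟨(n * e * n⁻¹)⁻¹ * e,
    mul_mem (inv_mem ((mem_normalizer_iff.mp hn.norm _).mp e.2)) e.2⟩
  have hf : Function.Injective f := by
    intro a b hab
    have h1 : (n * (a : G) * n⁻¹)⁻¹ * a = (n * (b : G) * n⁻¹)⁻¹ * b := congrArg Subtype.val hab
    have h2 : n * ((a : G) * (b : G)⁻¹) * n⁻¹ = (a : G) * (b : G)⁻¹ := by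
      calc n * ((a : G) * (b : G)⁻¹) * n⁻¹ = n * a * n⁻¹ * ((n * (b : G) * n⁻¹)⁻¹ * b) * (b : G)⁻¹ := by group
        _ = _ := by rw [← h1]; group
    exact Subtype.ext (mul_inv_eq_one.mp (hn.fpf _ (mul_mem a.2 (inv_mem b.2)) h2))
  obtain ⟨⟨e0, he0⟩, hf0⟩ := (Finite.injective_iff_surjective.mp hf) ⟨_, hn.moves l hl⟩
  have hf0' : (n * e0 * n⁻¹)⁻¹ * e0 = n * l * n⁻¹ * l⁻¹ := congrArg Subtype.val hf0
  refine ⟨e0, he0, ?_⟩
  have he0c : e0 ∈ centralizer (E : Set G) := mem_centralizer_iff.mpr fun e he => hE.comm e he e0 he0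
  set l' := e0 * l with hl'def
  have hl' : l' ∈ centralizer (E : Set G) := mul_mem he0c hl
  have hnl : n * l' * n⁻¹ = l' := by
    calc n * l' * n⁻¹ = n * e0 * n⁻¹ * (n * l * n⁻¹ * l⁻¹) * l := by rw [hl'def]; group
      _ = l' := by rw [← hf0', hl'def]; group
  -- the element of order three commutes with it
  obtain ⟨z, hz, hzl⟩ := F.cent_split hl'
  set x := F.j mx with hx
  have hxz : x * (z * l') = z * l' * x := mem_centralizer_iff.mp hzl _ (F.j_mem mx)
  have hxN : x ∈ normalizer (E : Set G) := mem_normalizer_fintype fun e he => by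
    obtain ⟨w, hw, rfl⟩ := (F.mem e).mp he
    exact (F.mem _).mpr ⟨_, mx_eList w hw, by rw [map_mul, map_mul, map_inv]⟩
  set v := (x * z * x⁻¹)⁻¹ * z with hv
  have hvE : v ∈ E := mul_mem (inv_mem ((mem_normalizer_iff.mp hxN z).mp hz)) hz
  have hxl : x * l' * x⁻¹ = v * l' :=
    calc x * l' * x⁻¹ = (x * z * x⁻¹)⁻¹ * (x * (z * l') * x⁻¹) := by group
      _ = v * l' := by rw [hxz, mul_inv_cancel_right, hv, ← mul_assoc]
  obtain ⟨i, hi⟩ := hn.twist
  have hni : n ^ i * l' * (n ^ i)⁻¹ = l' := by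
    rw [(Commute.pow_left (mul_inv_eq_iff_eq_mul.mp hnl : n * l' = l' * n) i).eq, mul_inv_cancel_right]
  have h5 : x * (x⁻¹ * n * x * (n ^ i)⁻¹ * l' * (x⁻¹ * n * x * (n ^ i)⁻¹)⁻¹ * l'⁻¹) * x⁻¹ ∈ Hs E :=
    normalizer_conj_mem_Hs hxN (hcomm _ hi _ hl')
  have h6 : x * (x⁻¹ * n * x * (n ^ i)⁻¹ * l' * (x⁻¹ * n * x * (n ^ i)⁻¹)⁻¹ * l'⁻¹) * x⁻¹ =
      n * v * n⁻¹ * v⁻¹ := by
    have h7 : (n ^ i)⁻¹ * l' * n ^ i = l' := by
      conv_lhs => rw [← hni]
      group
    calc x * (x⁻¹ * n * x * (n ^ i)⁻¹ * l' * (x⁻¹ * n * x * (n ^ i)⁻¹)⁻¹ * l'⁻¹) * x⁻¹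
        = n * (x * ((n ^ i)⁻¹ * l' * n ^ i) * x⁻¹) * n⁻¹ * (x * l' * x⁻¹)⁻¹ := by group
      _ = n * (v * l') * n⁻¹ * (v * l')⁻¹ := by rw [h7, hxl]
      _ = n * v * n⁻¹ * (n * l' * n⁻¹) * l'⁻¹ * v⁻¹ := by group
      _ = n * v * n⁻¹ * v⁻¹ := by rw [hnl, mul_inv_cancel_right]
  rw [h6] at h5
  have hv1 : v = 1 := by
    refine hn.fpf v hvE (mul_inv_eq_one.mp ?_)
    exact h.hs_inter hE F.t_mem h5
      (hE.le_Wt F.t_mem h.ne_one (mul_mem ((mem_normalizer_iff.mp hn.norm v).mp hvE) (inv_mem hvE)))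
  have hzfix : x * z * x⁻¹ = z := inv_mul_eq_one.mp (hv.symm.trans hv1)
  have hl'W : l' ∈ centralizer (Wt t : Set G) := by
    obtain ⟨w, hw, hwz⟩ := (F.mem z).mp hz
    have hz1 : w = 1 ∨ w = m1 := fix_mx w hw (F.inj (by rw [map_mul, map_mul, map_inv, hwz]; exact hzfix))
    have hzc : z ∈ centralizer (Wt t : Set G) := by
      rcases hz1 with rfl | rfl
      · rw [← hwz, map_one]; exact one_mem _
      · rw [← hwz, F.top]
        exact mem_centralizer_iff.mpr fun u hu => mem_centralizer_singleton_iff.mp (Wt_le t hu)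
    have := mul_mem (inv_mem hzc) hzl
    rwa [inv_mul_cancel_left] at this
  refine mem_Hs.mpr fun y hy hy1 => ?_
  obtain ⟨k, hk⟩ := hn.trans t F.t_mem h.ne_one y hy hy1
  have := conj_mem_centralizer_Wt (g := n ^ k) hl'W
  rwa [hk, (Commute.pow_left (mul_inv_eq_iff_eq_mul.mp hnl : n * l' = l' * n) k).eq,
    mul_inv_cancel_right] at this

/-- The centraliser of `t` is the product of the weak closure and the common centraliser. -/
theorem Hyp.cent_t_eq (h : Hyp G t) (hE : IsE t E) (ht : t ∈ E) {c : G} (hc : c ∈ centralizer ({t} : Set G)) :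
    ∃ w ∈ Wt t, w * c ∈ Hs E := by
  obtain ⟨F⟩ := h.exists_frame hE ht
  obtain ⟨w, hw, hwc⟩ := h.cent_eq_mul hE F hc
  obtain ⟨z, hz, hzc⟩ := h.cent_eq_hs hE F hwc
  exact ⟨z * w, mul_mem (hE.le_Wt ht h.ne_one hz) hw, by rwa [mul_assoc]⟩

omit [Finite G] in
theorem Hyp.hs_le (h : Hyp G t) {E' : Subgroup G} (hE : IsE t E) (hE' : IsE t E') (ht : t ∈ E)
    (ht' : t ∈ E') : Hs E' ≤ Hs E := by
  intro u hu
  obtain ⟨w, hw, hwE⟩ := h.conj_isE hE hE' ht ht'
  have h1 : w * u * w⁻¹ ∈ Hs E := by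
    refine conj_mem_Hs (fun y hy => ?_) hu
    rw [← hwE] at hy
    obtain ⟨e, he, rfl⟩ := hy
    show w⁻¹ * (w * e * w⁻¹) * w ∈ E'
    rwa [show w⁻¹ * (w * e * w⁻¹) * w = e by group]
  rwa [mem_centralizer_iff.mp (mem_Hs.mp hu t ht' h.ne_one) w hw, mul_inv_cancel_right] at h1

omit [Finite G] in
/-- Subgroups with a common non-identity element have the same common centraliser. -/
theorem Hyp.hs_eq (h : Hyp G t) {E' : Subgroup G} (hE : IsE t E) (hE' : IsE t E') {d : G} (hd : d ∈ E)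
    (hd' : d ∈ E') (hd1 : d ≠ 1) : Hs E = Hs E' := by
  have hc := hE.cls d hd hd1
  exact le_antisymm ((h.conj hc).hs_le (hE'.of_isConj hc) (hE.of_isConj hc) hd' hd)
    ((h.conj hc).hs_le (hE.of_isConj hc) (hE'.of_isConj hc) hd hd')

/-- Commuting conjugates of `t` lie in a common elementary subgroup. -/
theorem Hyp.exists_isE_pair (h : Hyp G t) {b : G} (hb : IsConj t b) (hc : Commute t b) :
    ∃ E, IsE t E ∧ t ∈ E ∧ b ∈ E := by
  obtain ⟨E, hE, ht⟩ := h.exists_isE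
  obtain ⟨F⟩ := h.exists_frame hE ht
  obtain ⟨z, rfl⟩ : b ∈ F.j.range := F.range.symm ▸ mem_Wt hb hc.symm
  have hz2 : z * z = 1 := F.inj (by rw [map_mul, map_one]; exact h.mul_self_of_isConj hb)
  have hz1 : z ≠ 1 := fun e => h.ne_one_of_isConj hb (by rw [e, map_one])
  by_cases hzm : z = m1
  · exact ⟨E, hE, ht, by rw [hzm, F.top]; exact ht⟩
  obtain ⟨y, hy⟩ := invol_class z hz2 hz1 hzm
  refine ⟨E.map (MulAut.conj (F.j y)⁻¹).toMonoidHom, hE.map _, ⟨t, ht, ?_⟩, ⟨F.j (y * z * y⁻¹), (F.mem _).mpr ⟨_, ?_, rfl⟩, ?_⟩⟩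
  · show (F.j y)⁻¹ * t * (F.j y)⁻¹⁻¹ = t
    rw [mem_centralizer_singleton_iff.mp (inv_mem (Wt_le t (F.j_mem y))), mul_inv_cancel_right]
  · rcases hy with e | e <;> rw [e] <;> simp [eList]
  · show (F.j y)⁻¹ * F.j (y * z * y⁻¹) * (F.j y)⁻¹⁻¹ = F.j z
    rw [map_mul, map_mul, map_inv]
    group

omit [Finite G] in
theorem Reach.isConj {a b : G} (ha : IsConj t a) (hab : Reach t a b) : IsConj t b := by
  rcases Relation.ReflTransGen.cases_tail hab with rfl | ⟨c, -, hcb⟩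
  · exact ha
  · exact hcb.2.1

omit [Finite G] in
theorem Reach.symm {a b : G} (hab : Reach t a b) : Reach t b a := by
  induction hab with
  | refl => exact .refl
  | tail _ hbc ih => exact .head ⟨hbc.2.1, hbc.1, hbc.2.2.symm⟩ ih

/-- The common centraliser is constant along connected components. -/
theorem Hyp.hs_eq_of_reach (h : Hyp G t) {a b : G} (hab : Reach t a b) (ha : IsConj t a) {E' : Subgroup G}
    (hE : IsE t E) (hE' : IsE t E') (haE : a ∈ E) (hbE : b ∈ E') : Hs E = Hs E' := by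
  induction hab generalizing E' with
  | refl => exact h.hs_eq hE hE' haE hbE (h.ne_one_of_isConj ha)
  | @tail b c _ hbc ih =>
    obtain ⟨E'', hE'', hb'', hc''⟩ := (h.conj hbc.1).exists_isE_pair (hbc.1.symm.trans hbc.2.1) hbc.2.2
    have hE''' : IsE t E'' := hE''.of_isConj hbc.1.symm
    rw [ih hE''' hb'', h.hs_eq hE''' hE' hc'' hbE (h.ne_one_of_isConj hbc.2.1)]

end Cfsg.Agent.J1Closure
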