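/-
The commuting graph on the class of `t` is connected.
Main results: `exists_sylow_centralizer`, `Hyp.reach`.
-/
import Cfsg.Agent.Lib.J1Closure.HSub
import Cfsg.Agent.S0215
import Cfsg.Agent.S0058
import Cfsg.Agent.S2797
import Cfsg.Agent.S2903

set_option autoImplicit false

namespace Cfsg.Agent.J1Closure

open Subgroup
open JankoOneOrder (Mdl m1)

universe u

variable {G : Type u} [Group G] {t : G}

/-- An involution with a class of odd size is central in a Sylow 2-subgroup. -/
theorem exists_sylow_centralizer [Finite G] {d : G} (hd : d * d = 1)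
    (hodd : ¬ 2 ∣ Nat.card {x : G // IsConj d x}) :
    ∃ P : Sylow 2 G, d ∈ P ∧ (P : Subgroup G) ≤ centralizer ({d} : Set G) := by
  have : Fact (Nat.Prime 2) := ⟨Nat.prime_two⟩
  have hidx : (centralizer ({d} : Set G)).index = Nat.card {x : G // IsConj d x} := by
    have h2 : (centralizer ({d} : Set G)).index = (MulAction.orbit (ConjAct G) d).ncard := by
      rw [← MulAction.index_stabilizer, ConjAct.stabilizer_eq_centralizer]
      rfl
    rw [h2, ← Nat.card_coe_set_eq]
    exact Nat.card_congr (Equiv.subtypeEquivRight fun x => by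
      show x ∈ MulAction.orbit (ConjAct G) d ↔ _
      rw [ConjAct.mem_orbit_conjAct]
      exact isConj_comm)
  let P0 : Sylow 2 ↥(centralizer ({d} : Set G)) := default
  have hcard : Nat.card ((P0 : Subgroup ↥(centralizer ({d} : Set G))).map (centralizer ({d} : Set G)).subtype) =
      2 ^ (Nat.card G).factorization 2 := by
    rw [card_map_of_injective (subtype_injective _), P0.card_eq_multiplicity,
      ← (centralizer ({d} : Set G)).card_mul_index, hidx,
      Nat.factorization_mul Nat.card_pos.ne' (fun e => hodd (by rw [e]; exact dvd_zero 2)), Finsupp.add_apply,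
      Nat.factorization_eq_zero_of_not_dvd hodd, add_zero]
  let P : Sylow 2 G := Sylow.ofCard _ hcard
  have hP : (P : Subgroup G) ≤ centralizer ({d} : Set G) := by
    rintro _ ⟨x, -, rfl⟩
    exact x.2
  have hz : IsPGroup 2 (zpowers d) := by
    rcases (Nat.dvd_prime Nat.prime_two).mp
      (orderOf_dvd_of_pow_eq_one (by rw [pow_two, hd] : d ^ 2 = 1)) with h1 | h1
    · exact IsPGroup.of_card (n := 0) (by rw [Nat.card_zpowers, h1, pow_zero])
    · exact IsPGroup.of_card (n := 1) (by rw [Nat.card_zpowers, h1, pow_one])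
  have hnorm : (P : Subgroup G) ≤ normalizer (zpowers d : Set G) := fun p hp => by
    refine centralizer_le_normalizer _ ?_
    refine mem_centralizer_iff.mpr fun y hy => ?_
    obtain ⟨k, rfl⟩ := mem_zpowers_iff.mp hy
    exact ((show Commute p d from mem_centralizer_singleton_iff.mp (hP hp)).zpow_right k).symm.eq
  refine ⟨P, ?_, hP⟩
  have h := P.3 (P.2.to_sup_of_normal_right' hz hnorm) le_sup_left
  show d ∈ (P : Subgroup G)
  rw [← h]
  exact mem_sup_right (mem_zpowers d)

/-- The product of two involutions of odd order conjugates one to the other. -/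
theorem dihedral_odd [Finite G] {a b : G} (ha : a * a = 1) (hb : b * b = 1) (h : Odd (orderOf (a * b))) :
    ∃ k : ℕ, (a * b) ^ k * a * ((a * b) ^ k)⁻¹ = b := by
  obtain ⟨k, hk⟩ := h
  have hai : a⁻¹ = a := inv_eq_of_mul_eq_one_right ha
  have hbi : b⁻¹ = b := inv_eq_of_mul_eq_one_right hb
  refine ⟨k, ?_⟩
  have hinv : a * (a * b) * a⁻¹ = (a * b)⁻¹ := by rw [← mul_assoc, ha, one_mul, mul_inv_rev, hbi]
  have h1 : a * ((a * b) ^ k)⁻¹ = (a * b) ^ k * a := by
    have : a * ((a * b) ^ k)⁻¹ * a⁻¹ = (a * b) ^ k := by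
      rw [← conj_inv, ← conj_pow, hinv, inv_pow, inv_inv]
    calc a * ((a * b) ^ k)⁻¹ = a * ((a * b) ^ k)⁻¹ * a⁻¹ * a := by group
      _ = _ := by rw [this]
  have h2 : (a * b) ^ k * (a * b) ^ k * (a * b) = 1 := by
    rw [← pow_add, ← pow_succ, ← two_mul, ← hk, pow_orderOf_eq_one]
  calc (a * b) ^ k * a * ((a * b) ^ k)⁻¹ = (a * b) ^ k * ((a * b) ^ k * a) := by rw [mul_assoc, h1]
    _ = (a * b)⁻¹ * a := by rw [← mul_assoc, eq_inv_of_mul_eq_one_left h2]
    _ = b := by rw [mul_inv_rev, inv_mul_cancel_right, hbi]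

namespace Reach

theorem conj {a b : G} (g : G) (h : Reach t a b) : Reach t (g * a * g⁻¹) (g * b * g⁻¹) := by
  refine Relation.ReflTransGen.lift (p := Adj t) (fun x => g * x * g⁻¹) (fun x y hxy => ?_) _ _ h
  exact ⟨hxy.1.trans (isConj_iff.mpr ⟨g, rfl⟩), hxy.2.1.trans (isConj_iff.mpr ⟨g, rfl⟩),
    Commute.conj hxy.2.2 g⟩

theorem congr {t' a b : G} (ht : IsConj t t') (h : Reach t' a b) : Reach t a b :=
  Relation.ReflTransGen.mono (fun _ _ hxy => ⟨ht.trans hxy.1, ht.trans hxy.2.1, hxy.2.2⟩) _ _ h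

end Reach

/-- The setwise stabiliser of the component of `d`. -/
def stab (t d : G) : Subgroup G where
  carrier := {g | Reach t d (g * d * g⁻¹)}
  mul_mem' := fun {g k} hg hk => by
    have h := hk.conj g
    rw [show g * (k * d * k⁻¹) * g⁻¹ = g * k * d * (g * k)⁻¹ by group] at h
    exact Relation.ReflTransGen.trans hg h
  one_mem' := by
    show Reach t d (1 * d * 1⁻¹)
    rw [one_mul, inv_one, mul_one]
    exact .refl
  inv_mem' := fun {g} hg => by
    have h := (Reach.conj g⁻¹ hg).symm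
    rw [show g⁻¹ * (g * d * g⁻¹) * g⁻¹⁻¹ = d by group] at h
    exact h

theorem stab_eq {a b : G} (h : Reach t a b) : stab t a = stab t b := by
  ext g
  exact ⟨fun hg => h.symm.trans (Relation.ReflTransGen.trans hg (h.conj g)),
    fun hg => h.trans (Relation.ReflTransGen.trans hg (h.conj g).symm)⟩

theorem centralizer_le_stab {d v : G} (h : Reach t d v) : centralizer ({v} : Set G) ≤ stab t d := by
  intro c hc
  rw [stab_eq h]
  show Reach t v (c * v * c⁻¹)
  rw [mem_centralizer_singleton_iff.mp hc, mul_inv_cancel_right]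
  exact .refl

/-- A hom injective on the weak closure and compatible with the classes preserves the hypothesis. -/
theorem Hyp.transfer {A B : Type u} [Group A] [Group B] (f : A →* B) {a : A} {b : B}
    (hab : f a = b) (ha : orderOf a = 2) (hb : b ≠ 1)
    (himg : ∀ y, (∃ x, (IsConj a x ∧ Commute x a) ∧ f x = y) ↔ IsConj b y ∧ Commute y b)
    (hinj : ∀ x ∈ Wt a, f x = 1 → x = 1) :
    orderOf b = 2 ∧ Nonempty (Wt a ≃* Wt b) := by
  have : Fact (Nat.Prime 2) := ⟨Nat.prime_two⟩
  refine ⟨orderOf_eq_prime (by rw [← hab, ← map_pow, ← ha, pow_orderOf_eq_one, map_one]) hb, ?_⟩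
  have hmap : (Wt a).map f = Wt b := by
    rw [Wt, Wt, MonoidHom.map_closure]
    congr 1
    exact Set.ext fun y => himg y
  have hi : Function.Injective (f.comp (Wt a).subtype) := (injective_iff_map_eq_one _).mpr
    fun x hx => Subtype.ext (hinj x x.2 hx)
  exact ⟨(MonoidHom.ofInjective hi).trans
    (MulEquiv.subgroupCongr (by rw [MonoidHom.range_comp, range_subtype, hmap]))⟩

variable [Finite G]

/-- A conjugate of `t` is alone in its class in the centraliser of `d * s`. -/
theorem Hyp.isolated (h : Hyp G t) {d : G} (hd : IsConj t d) {E : Subgroup G} (hE : IsE t E) (hdE : d ∈ E)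
    {s : G} (hs : s ∈ Hs E) {c : G} (hc : c ∈ centralizer ({d * s} : Set G))
    (hcd : Commute (c * d * c⁻¹) d) : c * d * c⁻¹ = d := by
  have hd' : IsConj t (c * d * c⁻¹) := hd.trans (isConj_iff.mpr ⟨c, rfl⟩)
  obtain ⟨E', hE', hdE', hd'E'⟩ := (h.conj hd).exists_isE_pair (hd.symm.trans hd') hcd.symm
  have hE'' : IsE t E' := hE'.of_isConj hd.symm
  have hs' : c * s * c⁻¹ ∈ Hs E' := by
    rw [← h.hs_eq (hE.map c) hE'' ⟨d, hdE, rfl⟩ hd'E' (h.ne_one_of_isConj hd')]
    refine conj_mem_Hs (fun y hy => ?_) hs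
    obtain ⟨e, he, rfl⟩ := hy
    show c⁻¹ * (c * e * c⁻¹) * c ∈ E
    rwa [show c⁻¹ * (c * e * c⁻¹) * c = e by group]
  have hsE' : s ∈ Hs E' := h.hs_eq hE hE'' hdE hdE' (h.ne_one_of_isConj hd) ▸ hs
  have e0 : c * d * c⁻¹ * (c * s * c⁻¹) = d * s := by
    rw [conj_mul, mem_centralizer_singleton_iff.mp hc, mul_inv_cancel_right]
  have e : (c * d * c⁻¹)⁻¹ * d = c * s * c⁻¹ * s⁻¹ := by
    calc (c * d * c⁻¹)⁻¹ * d = (c * d * c⁻¹)⁻¹ * (d * s) * s⁻¹ := by group
      _ = _ := by rw [← e0]; group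
  have h1 : (c * d * c⁻¹)⁻¹ * d = 1 := (h.conj hd).hs_inter hE' hdE' (by rw [e]; exact mul_mem hs' (inv_mem hsE'))
    (hE'.le_Wt hdE' (h.ne_one_of_isConj hd) (mul_mem (inv_mem hd'E') hdE'))
  exact inv_mul_eq_one.mp h1

/-- The centraliser of `d * s` stabilises the component of `d`. -/
theorem Hyp.centralizer_mul_le_stab (h : Hyp G t) {d : G} (hd : IsConj t d) {E : Subgroup G} (hE : IsE t E)
    (hdE : d ∈ E) {s : G} (hs : s ∈ Hs E) : centralizer ({d * s} : Set G) ≤ stab t d := by
  classical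
  have : Fact (Nat.Prime 2) := ⟨Nat.prime_two⟩
  set U := centralizer ({d * s} : Set G) with hU
  have hd1 := h.ne_one_of_isConj hd
  have hdd := h.mul_self_of_isConj hd
  have hsE := Hs_le_centralizer hE hdE hd1 hs
  have hEU : E ≤ U := fun e he => mem_centralizer_singleton_iff.mpr
    ((hE.comm e he d hdE).mul_right (mem_centralizer_iff.mp hsE e he : e * s = s * e)).eq
  let dU : U := ⟨d, hEU hdE⟩
  have hodd : ¬ 2 ∣ Nat.card {x : U // IsConj dU x} := by
    let f : Equiv.Perm {x : U // IsConj dU x} :=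
      (MulAut.conj dU).toEquiv.subtypeEquiv fun x =>
        ⟨fun hx => hx.trans (isConj_iff.mpr ⟨dU, rfl⟩), fun hx => hx.trans (isConj_iff.mpr ⟨dU, rfl⟩).symm⟩
    have hdU : dU * dU = 1 := Subtype.ext hdd
    have hf : orderOf f ∣ 2 := orderOf_dvd_of_pow_eq_one (Equiv.ext fun x => Subtype.ext (by
      show dU * (dU * x.1 * dU⁻¹) * dU⁻¹ = x.1
      rw [inv_eq_of_mul_eq_one_right hdU, ← mul_assoc, ← mul_assoc, hdU, one_mul, mul_assoc, hdU, mul_one]))
    have hP : IsPGroup 2 (zpowers f) := by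
      rcases (Nat.dvd_prime Nat.prime_two).mp hf with h1 | h1
      · exact IsPGroup.of_card (n := 0) (by rw [Nat.card_zpowers, h1, pow_zero])
      · exact IsPGroup.of_card (n := 1) (by rw [Nat.card_zpowers, h1, pow_one])
    have hmod := hP.card_modEq_card_fixedPoints {x : U // IsConj dU x}
    have hone : Nat.card (MulAction.fixedPoints (zpowers f) {x : U // IsConj dU x}) = 1 := by
      refine Nat.card_eq_one_iff_unique.mpr ⟨⟨?_⟩, ⟨⟨⟨dU, IsConj.refl dU⟩, ?_⟩⟩⟩
      · suffices hall : ∀ q : MulAction.fixedPoints (zpowers f) {x : U // IsConj dU x}, q.1.1 = dU from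
          fun a b => Subtype.ext (Subtype.ext ((hall a).trans (hall b).symm))
        rintro ⟨⟨y, hy⟩, hfix⟩
        obtain ⟨c, rfl⟩ := isConj_iff.mp hy
        have h1 : dU * (c * dU * c⁻¹) * dU⁻¹ = c * dU * c⁻¹ := congrArg Subtype.val (hfix ⟨f, mem_zpowers f⟩)
        exact Subtype.ext (h.isolated hd hE hdE hs c.2
          (congrArg Subtype.val (mul_inv_eq_iff_eq_mul.mp h1)).symm)
      · rintro ⟨g, hg⟩
        show g • (⟨dU, IsConj.refl dU⟩ : {x : U // IsConj dU x}) = _
        refine MulAction.mem_stabilizer_iff.mp (zpowers_le.mpr (?_ : f ∈ MulAction.stabilizer _ _) hg)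
        refine MulAction.mem_stabilizer_iff.mpr (Subtype.ext ?_)
        show dU * dU * dU⁻¹ = dU
        rw [mul_inv_cancel_right]
    unfold Nat.ModEq at hmod
    omega
  have hord : orderOf dU = 2 := by
    rw [← Subgroup.orderOf_coe]; exact (h.conj hd).ord
  obtain ⟨P, hdP, hPC⟩ := exists_sylow_centralizer (d := dU) (Subtype.ext hdd) hodd
  obtain ⟨R, hRn, hRodd, hR⟩ := S0215.result P dU hord hdP fun g hg => by
    refine Subtype.ext (h.isolated hd hE hdE hs g.2 ?_)
    exact congrArg Subtype.val (mem_centralizer_singleton_iff.mp (hPC hg))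
  -- the odd normal subgroup is generated by centralisers inside the stabiliser
  set R' := R.map U.subtype with hR'
  have hA : ¬ IsCyclic E := fun hcy => by
    obtain ⟨g, hg⟩ := hcy.exists_zpow_surjective
    have h8 := orderOf_eq_card_of_forall_mem_zpowers fun x => mem_zpowers_iff.mpr (hg x)
    rw [hE.card] at h8
    have h2 : orderOf g ∣ 2 := orderOf_dvd_of_pow_eq_one (Subtype.ext (by
      show (g : G) ^ 2 = 1
      by_cases hg1 : (g : G) = 1
      · rw [hg1, one_pow]
      · rw [pow_two]; exact h.mul_self_of_isConj (hE.cls g g.2 hg1)))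
    have := Nat.le_of_dvd (by norm_num) h2
    omega
  have hER : E ≤ normalizer (R' : Set G) := fun e he => mem_normalizer_fintype fun x hx => by
    obtain ⟨y, hy, rfl⟩ := hx
    exact ⟨⟨e, hEU he⟩ * y * ⟨e, hEU he⟩⁻¹, hRn.conj_mem y hy _, rfl⟩
  have : IsMulCommutative E := ⟨⟨fun a b => Subtype.ext (hE.comm a a.2 b b.2).eq⟩⟩
  have hcop : (Nat.card E).Coprime (Nat.card R') := by
    rw [hE.card, hR', card_map_of_injective U.subtype_injective, show (8 : ℕ) = 2 ^ 3 by norm_num]
    exact Nat.Coprime.pow_left 3 (Nat.coprime_two_left.mpr hRodd)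
  have hRstab : R' ≤ stab t d := by
    rw [← S0058.result E R' hA hER hcop]
    refine iSup₂_le fun a ha => inf_le_right.trans (centralizer_le_stab ?_)
    exact .single ⟨hd, hE.cls a ha.1 ha.2, hE.comm d hdE a ha.1⟩
  intro c hc
  let cU : U := ⟨c, hc⟩
  have hd'd : (cU * dU * cU⁻¹) * (cU * dU * cU⁻¹) = 1 := by
    rw [conj_mul, show dU * dU = 1 from Subtype.ext hdd, mul_one, mul_inv_cancel]
  have hq : dU * (cU * dU * cU⁻¹) ∈ R := by
    have h1 := hR cU
    rw [inv_eq_of_mul_eq_one_right (show dU * dU = 1 from Subtype.ext hdd)] at h1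
    simpa [mul_assoc] using h1
  obtain ⟨k, hk⟩ := dihedral_odd (show dU * dU = 1 from Subtype.ext hdd) hd'd
    (hRodd.of_dvd_nat (R.orderOf_dvd_natCard hq))
  set r := (dU * (cU * dU * cU⁻¹)) ^ k with hr
  have hrR : (r : G) ∈ R' := ⟨r, pow_mem hq k, rfl⟩
  have hrc : ((r⁻¹ * cU : U) : G) ∈ centralizer ({d} : Set G) := by
    refine mem_centralizer_singleton_iff.mpr (congrArg Subtype.val (?_ : r⁻¹ * cU * dU = dU * (r⁻¹ * cU)))
    calc r⁻¹ * cU * dU = r⁻¹ * (cU * dU * cU⁻¹) * cU := by group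
      _ = r⁻¹ * (r * dU * r⁻¹) * cU := by rw [hk]
      _ = _ := by group
  have := mul_mem (hRstab hrR) (centralizer_le_stab (t := t) .refl hrc)
  rwa [← Subgroup.coe_mul, mul_inv_cancel_left] at this

/-- Conjugates commuting with a common involution are connected. -/
theorem Hyp.reach_of_commute (h : Hyp G t)
    (IH : ∀ (A : Type u) [Group A] [Finite A], Nat.card A < Nat.card G → ∀ s : A, Hyp A s →
      ∀ d, IsConj s d → Reach s s d)
    {a b u : G} (ha : IsConj t a) (hb : IsConj t b) (hu : u * u = 1) (hu1 : u ≠ 1)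
    (hau : Commute a u) (hbu : Commute b u) : Reach t a b := by
  classical
  have : Fact (Nat.Prime 2) := ⟨Nat.prime_two⟩
  have hA := h.conj ha
  obtain ⟨E, hE, haE⟩ := hA.exists_isE
  obtain ⟨w, hw, hs⟩ := hA.cent_t_eq hE haE (c := u) (mem_centralizer_singleton_iff.mpr hau.symm.eq)
  have hE' : IsE t E := hE.of_isConj ha.symm
  set s := w * u with hsdef
  have hws : w * s = s * w := mem_centralizer_iff.mp (mem_Hs.mp hs a haE hA.ne_one) w hw
  have huw : u = w⁻¹ * s := by rw [hsdef, inv_mul_cancel_left]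
  have hss : s * s = w * w := by
    have e : s * s = w * s * u := by rw [hsdef]; conv_rhs => rw [show w * (w * u) = w * u * w from hws]
                                     group
    rw [e, hsdef, mul_assoc, mul_assoc, hu, mul_one]
  have hww : w * w = 1 := hA.hs_inter hE haE (hss ▸ mul_mem hs hs) (mul_mem hw hw)
  by_cases hw1 : w = 1
  swap
  · -- the component is stabilised by the centraliser
    have hwc : IsConj a w := hA.invol_conj hw hww hw1
    have hwa : Commute a w := (mem_centralizer_singleton_iff.mp (Wt_le a hw) : w * a = a * w).symm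
    obtain ⟨E', hE2, haE', hwE'⟩ := hA.exists_isE_pair hwc hwa
    have hs' : s ∈ Hs E' := hA.hs_eq hE hE2 haE haE' hA.ne_one ▸ hs
    have haw : Reach t a w := .single ⟨ha, ha.trans hwc, hwa⟩
    have hbs : b ∈ stab t a := by
      rw [stab_eq haw]
      refine h.centralizer_mul_le_stab (ha.trans hwc) (hE2.of_isConj ha.symm) hwE' hs'
        (mem_centralizer_singleton_iff.mpr ?_)
      rw [show w * s = u by rw [huw, inv_eq_of_mul_eq_one_right hww]]
      exact hbu.eq
    obtain ⟨P, -, hP⟩ := exists_sylow_centralizer hA.self_mul_self hA.odd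
    have hPM : (P : Subgroup G) ≤ stab t a := hP.trans (centralizer_le_stab .refl)
    let PM : Sylow 2 ↥(stab t a) := P.subtype hPM
    have hbb := h.mul_self_of_isConj hb
    have hbP : IsPGroup 2 (zpowers (⟨b, hbs⟩ : stab t a)) := IsPGroup.of_card (n := 1) (by
      rw [Nat.card_zpowers, ← Subgroup.orderOf_coe, (h.conj hb).ord, pow_one])
    obtain ⟨Q, hQ⟩ := hbP.exists_le_sylow
    obtain ⟨m, hm⟩ := MulAction.exists_smul_eq ↥(stab t a) Q PM
    have hmb : m * ⟨b, hbs⟩ * m⁻¹ ∈ (PM : Subgroup ↥(stab t a)) := by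
      rw [← hm]; exact ⟨⟨b, hbs⟩, hQ (mem_zpowers _), rfl⟩
    have hc1 : Commute ((m : G) * b * (m : G)⁻¹) a :=
      mem_centralizer_singleton_iff.mp (hP (mem_subgroupOf.mp hmb))
    have hc2 : Commute b ((m : G)⁻¹ * a * m) := by simpa [mul_assoc] using Commute.conj hc1 (m : G)⁻¹
    have hm' : Reach t a ((m : G)⁻¹ * a * m) := by
      have := (stab t a).inv_mem m.2
      show Reach t a _
      simpa using (show Reach t a ((m : G)⁻¹ * a * (m : G)⁻¹⁻¹) from this)
    exact hm'.tail ⟨hm'.isConj ha, hb, hc2.symm⟩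
  -- now `u` lies in the common centraliser
  have hus : u = s := by rw [huw, hw1, inv_one, one_mul]
  rw [← hus] at hs
  have haa := hA.self_mul_self
  have hbb := h.mul_self_of_isConj hb
  rcases Nat.even_or_odd (orderOf (a * b)) with ⟨j, hj⟩ | hodd
  · -- a central involution of the dihedral group
    have hpos := orderOf_pos (a * b)
    set z := (a * b) ^ j with hz
    have hz1 : z ≠ 1 := fun e => by
      have := Nat.le_of_dvd (by omega) (orderOf_dvd_of_pow_eq_one e)
      omega
    have hzz : z * z = 1 := by rw [hz, ← pow_add, ← hj, pow_orderOf_eq_one]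
    have hzi : z⁻¹ = z := inv_eq_of_mul_eq_one_right hzz
    have hca : Commute a z := by
      have e : a * z * a⁻¹ = z := by
        rw [hz, ← conj_pow, show a * (a * b) * a⁻¹ = (a * b)⁻¹ by
          rw [← mul_assoc, haa, one_mul, mul_inv_rev, inv_eq_of_mul_eq_one_right hbb], inv_pow]
        exact hzi
      exact mul_inv_eq_iff_eq_mul.mp e
    have hcb : Commute b z := by
      have e : b * z * b⁻¹ = z := by
        rw [hz, ← conj_pow, show b * (a * b) * b⁻¹ = (a * b)⁻¹ by
          rw [mul_inv_rev, inv_eq_of_mul_eq_one_right haa, inv_eq_of_mul_eq_one_right hbb, mul_assoc, mul_assoc,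
            hbb, mul_one], inv_pow]
        exact hzi
      exact mul_inv_eq_iff_eq_mul.mp e
    have haz : IsConj t (a * z) := by
      have hkey : ∀ i : ℕ, a * (a * b) ^ i = ((a * b) ^ i)⁻¹ * a := fun i => by
        have : a * (a * b) ^ i * a⁻¹ = ((a * b) ^ i)⁻¹ := by
          rw [← conj_pow, ← mul_assoc, haa, one_mul, ← inv_pow, mul_inv_rev, inv_eq_of_mul_eq_one_right hbb]
        exact mul_inv_eq_iff_eq_mul.mp this
      rcases Nat.even_or_odd j with ⟨i, hi⟩ | ⟨i, hi⟩
      · refine ha.trans (isConj_iff.mpr ⟨((a * b) ^ i)⁻¹, ?_⟩)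
        rw [hz, hi, pow_add, inv_inv, ← mul_assoc a, hkey]
      · refine hb.trans (isConj_iff.mpr ⟨((a * b) ^ i)⁻¹, ?_⟩)
        rw [hz, hi, two_mul, add_assoc, pow_add, pow_succ', ← mul_assoc a, hkey, inv_inv]
        calc ((a * b) ^ i)⁻¹ * b * (a * b) ^ i = ((a * b) ^ i)⁻¹ * (a * a) * b * (a * b) ^ i := by
              rw [haa, mul_one]
          _ = ((a * b) ^ i)⁻¹ * a * ((a * b) * (a * b) ^ i) := by simp only [mul_assoc]
          _ = _ := by group
    have hzW : z ∈ Wt a := by
      have := mul_mem (mem_Wt_self a) (mem_Wt (ha.symm.trans haz) ((Commute.refl a).mul_left hca.symm))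
      rwa [← mul_assoc, haa, one_mul] at this
    have hzc : IsConj t z := ha.trans (hA.invol_conj hzW hzz hz1)
    exact .tail (.single ⟨ha, hzc, hca⟩) ⟨hzc, hb, hcb.symm⟩
  -- they are conjugate in the centraliser of `u`
  obtain ⟨k, hk⟩ := dihedral_odd haa hbb hodd
  have huW : u ∈ centralizer (Wt a : Set G) := mem_Hs.mp hs a haE hA.ne_one
  by_cases htop : centralizer ({u} : Set G) = ⊤
  swap
  · set U := centralizer ({u} : Set G) with hU
    let aU : U := ⟨a, mem_centralizer_singleton_iff.mpr hau.eq⟩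
    let bU : U := ⟨b, mem_centralizer_singleton_iff.mpr hbu.eq⟩
    have habU : IsConj aU bU := isConj_iff.mpr ⟨⟨(a * b) ^ k,
      mem_centralizer_singleton_iff.mpr ((hau.mul_left hbu).pow_left k).eq⟩, Subtype.ext hk⟩
    have hfull : ∀ y, IsConj a y → Commute y a → ∃ x : U, (IsConj aU x ∧ Commute x aU) ∧ U.subtype x = y := by
      intro y hy hya
      obtain ⟨E', hE2, haE', hyE'⟩ := hA.exists_isE_pair hy hya.symm
      have hu' : u ∈ Hs E' := hA.hs_eq hE hE2 haE haE' hA.ne_one ▸ hs
      obtain ⟨F⟩ := hA.exists_frame hE2 haE'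
      obtain ⟨n, hn⟩ := hA.exists_seven hE2 F
      obtain ⟨i, hi⟩ := hn.trans a haE' hA.ne_one y hyE' (hA.ne_one_of_isConj hy)
      let nU : U := ⟨n, mem_centralizer_singleton_iff.mpr (hn.fix u (mem_Hs.mp hu')).eq⟩
      have hyU : y ∈ U := hi ▸ mul_mem (mul_mem (pow_mem nU.2 i) aU.2) (inv_mem (pow_mem nU.2 i))
      exact ⟨⟨y, hyU⟩, ⟨isConj_iff.mpr ⟨nU ^ i, Subtype.ext hi⟩, Subtype.ext hya.eq⟩, rfl⟩
    have himg : ∀ y, (∃ x : U, (IsConj aU x ∧ Commute x aU) ∧ U.subtype x = y) ↔ IsConj a y ∧ Commute y a := by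
      refine fun y => ⟨?_, fun hy => hfull y hy.1 hy.2⟩
      rintro ⟨x, ⟨hx, hxa⟩, rfl⟩
      exact ⟨U.subtype.map_isConj hx, hxa.map U.subtype⟩
    have hord : orderOf aU = 2 := by rw [← Subgroup.orderOf_coe]; exact hA.ord
    obtain ⟨-, ⟨e⟩⟩ := Hyp.transfer U.subtype (a := aU) (b := a) rfl hord hA.ne_one himg
      fun x _ hx => U.subtype_injective (hx.trans (map_one _).symm)
    obtain ⟨e'⟩ := hA.model
    have hHyp : Hyp U aU := by
      refine ⟨hord, ⟨e.trans e'⟩, ?_⟩
      have hpar : ∀ (A : Type u) [Group A] [Finite A] (c : A), c * c = 1 →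
          Nat.card {x : A // IsConj c x} % 2 = Nat.card {x : A // IsConj c x ∧ Commute x c} % 2 := by
        intro A _ _ c hc
        let f : Equiv.Perm {x : A // IsConj c x} :=
          (MulAut.conj c).toEquiv.subtypeEquiv fun x =>
            ⟨fun hx => hx.trans (isConj_iff.mpr ⟨c, rfl⟩), fun hx => hx.trans (isConj_iff.mpr ⟨c, rfl⟩).symm⟩
        have hf : orderOf f ∣ 2 := orderOf_dvd_of_pow_eq_one (Equiv.ext fun x => Subtype.ext (by
          show c * (c * x.1 * c⁻¹) * c⁻¹ = x.1
          rw [inv_eq_of_mul_eq_one_right hc, ← mul_assoc, ← mul_assoc, hc, one_mul, mul_assoc, hc, mul_one]))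
        have hP : IsPGroup 2 (zpowers f) := by
          rcases (Nat.dvd_prime Nat.prime_two).mp hf with h1 | h1
          · exact IsPGroup.of_card (n := 0) (by rw [Nat.card_zpowers, h1, pow_zero])
          · exact IsPGroup.of_card (n := 1) (by rw [Nat.card_zpowers, h1, pow_one])
        have hmod := hP.card_modEq_card_fixedPoints {x : A // IsConj c x}
        have e : Nat.card {x : A // IsConj c x ∧ Commute x c} =
            Nat.card (MulAction.fixedPoints (zpowers f) {x : A // IsConj c x}) := by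
          refine Nat.card_congr ((Equiv.subtypeSubtypeEquivSubtypeInter _ _).symm.trans
            (Equiv.subtypeEquivRight fun x => ⟨fun hx => ?_, fun hx => ?_⟩))
          · rintro ⟨g, hg⟩
            show g • x = x
            refine MulAction.mem_stabilizer_iff.mp (zpowers_le.mpr (?_ : f ∈ MulAction.stabilizer _ _) hg)
            refine MulAction.mem_stabilizer_iff.mpr (Subtype.ext ?_)
            show c * x.1 * c⁻¹ = x.1
            rw [← hx.eq, mul_inv_cancel_right]
          · exact (mul_inv_eq_iff_eq_mul.mp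
              (show c * x.1 * c⁻¹ = x.1 from congrArg Subtype.val (hx ⟨f, mem_zpowers f⟩))).symm
        rw [e]
        exact hmod
      have e1 := hpar U aU (Subtype.ext haa)
      have e2 := hpar G a haa
      have e3 : Nat.card {x : U // IsConj aU x ∧ Commute x aU} = Nat.card {y : G // IsConj a y ∧ Commute y a} := by
        refine Nat.card_eq_of_bijective (fun x => ⟨x.1, (himg _).mp ⟨x.1, x.2, rfl⟩⟩) ⟨?_, fun y => ?_⟩
        · exact fun x y hxy => Subtype.ext (Subtype.ext (congrArg (fun q : {y : G // IsConj a y ∧ Commute y a} => q.1) hxy))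
        · obtain ⟨x, hx, hxy⟩ := hfull y.1 y.2.1 y.2.2
          exact ⟨⟨x, hx⟩, Subtype.ext hxy⟩
      have := hA.odd
      omega
    have hlt : Nat.card U < Nat.card G := lt_of_le_of_ne U.card_le_card_group
      fun e => htop (eq_top_of_card_eq U e)
    refine Reach.congr ha (?_ : Reach a a b)
    exact Relation.ReflTransGen.lift (r := Adj aU) (p := Adj a) U.subtype
      (fun x y hxy => ⟨U.subtype.map_isConj hxy.1, U.subtype.map_isConj hxy.2.1, hxy.2.2.map U.subtype⟩)
      _ _ (IH U hlt aU hHyp bU habU)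
  -- `u` is central
  have hcen : ∀ g : G, Commute u g := fun g =>
    (mem_centralizer_singleton_iff.mp (htop ▸ mem_top g) : g * u = u * g).symm
  have hnot : ∀ x, IsConj a x → u ∉ Wt x := by
    intro x hx hux
    obtain ⟨E', hE2, hxE'⟩ := (hA.conj hx).exists_isE
    exact hu1 ((hA.conj hx).hs_inter hE2 hxE'
      (mem_Hs.mpr fun y _ _ => mem_centralizer_iff.mpr fun v _ => (hcen v).symm.eq) hux)
  set Z := zpowers u with hZ
  have hZn : Z.Normal := ⟨fun y hy g => by
    obtain ⟨i, rfl⟩ := mem_zpowers_iff.mp hy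
    rw [((hcen g).zpow_left i).symm.eq, mul_inv_cancel_right]
    exact hy⟩
  have hZcases : ∀ y ∈ Z, y = 1 ∨ y = u := by
    intro y hy
    obtain ⟨i, rfl⟩ := mem_zpowers_iff.mp hy
    rcases Int.even_or_odd i with ⟨j, rfl⟩ | ⟨j, rfl⟩
    · left; rw [← two_mul, zpow_mul, zpow_two, hu, one_zpow]
    · right; rw [zpow_add_one, zpow_mul, zpow_two, hu, one_zpow, one_mul]
  let π := QuotientGroup.mk' Z
  have hπc : ∀ x y, IsConj a x → IsConj a y → Commute (π x) (π y) → Commute x y := by
    intro x y hx hy hc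
    have h1 : π (y * x * y⁻¹) = π x := by
      rw [map_mul, map_mul, map_inv, hc.symm.eq, mul_inv_cancel_right]
    rcases hZcases _ (QuotientGroup.eq.mp h1.symm) with e | e
    · exact ((mul_inv_eq_iff_eq_mul.mp (inv_mul_eq_one.mp e).symm) : y * x = x * y).symm
    · exfalso
      refine hnot x hx ?_
      rw [← e]
      refine mul_mem (inv_mem (mem_Wt_self x)) (mem_Wt (isConj_iff.mpr ⟨y, rfl⟩) ?_)
      rw [inv_mul_eq_iff_eq_mul.mp e]
      exact (Commute.refl x).mul_left (hcen x)
  have hπi : ∀ x y, IsConj a x → IsConj a y → π x = π y → x = y := by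
    intro x y hx hy e
    have hc := hπc x y hx hy (by rw [e])
    rcases hZcases _ (QuotientGroup.eq.mp e) with e' | e'
    · exact inv_mul_eq_one.mp e'
    · exfalso
      refine hnot x hx ?_
      rw [← e']
      exact mul_mem (inv_mem (mem_Wt_self x)) (mem_Wt (hx.symm.trans hy) hc.symm)
  have hlift : ∀ q, IsConj (π a) q → ∃ x, IsConj a x ∧ π x = q := by
    intro q hq
    obtain ⟨g, rfl⟩ := isConj_iff.mp hq
    obtain ⟨g, rfl⟩ := QuotientGroup.mk'_surjective Z g
    exact ⟨g * a * g⁻¹, isConj_iff.mpr ⟨g, rfl⟩, by rw [map_mul, map_mul, map_inv]⟩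
  have himg : ∀ q, (∃ x, (IsConj a x ∧ Commute x a) ∧ π x = q) ↔ IsConj (π a) q ∧ Commute q (π a) := by
    refine fun q => ⟨?_, fun hq => ?_⟩
    · rintro ⟨x, ⟨hx, hxa⟩, rfl⟩
      exact ⟨π.map_isConj hx, hxa.map π⟩
    · obtain ⟨x, hx, rfl⟩ := hlift q hq.1
      exact ⟨x, ⟨hx, hπc x a hx (IsConj.refl a) hq.2⟩, rfl⟩
  have hker : ∀ x ∈ Wt a, π x = 1 → x = 1 := fun x hx e =>
    (hZcases x ((QuotientGroup.eq_one_iff x).mp e)).resolve_right fun e' => hnot a (IsConj.refl a) (e' ▸ hx)
  obtain ⟨hord, ⟨e⟩⟩ := Hyp.transfer π rfl hA.ord (fun e => hA.ne_one (hker a (mem_Wt_self a) e)) himg hker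
  obtain ⟨e'⟩ := hA.model
  have hHyp : Hyp (G ⧸ Z) (π a) := by
    refine ⟨hord, ⟨e.symm.trans e'⟩, ?_⟩
    rw [← Nat.card_eq_of_bijective (fun x : {x // IsConj a x} =>
      (⟨π x.1, π.map_isConj x.2⟩ : {q // IsConj (π a) q}))
      ⟨fun x y hxy => Subtype.ext (hπi _ _ x.2 y.2 (congrArg Subtype.val hxy)), fun q => by
        obtain ⟨x, hx, hq⟩ := hlift q.1 q.2
        exact ⟨⟨x, hx⟩, Subtype.ext hq⟩⟩]
    exact hA.odd
  have hlt : Nat.card (G ⧸ Z) < Nat.card G := by
    rw [Z.card_eq_card_quotient_mul_card_subgroup]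
    refine lt_mul_of_one_lt_right Nat.card_pos ?_
    rw [hZ, Nat.card_zpowers, orderOf_eq_prime (by rw [pow_two, hu]) hu1]
    norm_num
  have hR := IH (G ⧸ Z) hlt (π a) hHyp (π b) (π.map_isConj (ha.symm.trans hb))
  have hliftR : ∀ q, Reach (π a) (π a) q → ∃ x, IsConj a x ∧ π x = q ∧ Reach t a x := by
    intro q hq
    induction hq with
    | refl => exact ⟨a, IsConj.refl a, rfl, .refl⟩
    | @tail p q _ hpq ih =>
      obtain ⟨x, hx, rfl, hr⟩ := ih
      obtain ⟨y, hy, rfl⟩ := hlift q hpq.2.1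
      exact ⟨y, hy, rfl, hr.tail ⟨ha.trans hx, ha.trans hy, hπc x y hx hy hpq.2.2⟩⟩
  obtain ⟨x, hx, hxq, hxr⟩ := hliftR _ hR
  rwa [hπi x b hx (ha.symm.trans hb) hxq] at hxr

/-- The conjugates of `t` form one component. -/
theorem Hyp.reach {G : Type u} [Group G] [Finite G] {t : G} (h : Hyp G t) {d : G} (hd : IsConj t d) :
    Reach t t d := by
  induction hn : Nat.card G using Nat.strong_induction_on generalizing G with
  | _ n IH =>
    subst hn
    classical
    have : Fact (Nat.Prime 2) := ⟨Nat.prime_two⟩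
    by_contra hne
    obtain ⟨S, htS, hS⟩ := exists_sylow_centralizer h.self_mul_self h.odd
    set M := stab t t with hMdef
    have hCM : centralizer ({t} : Set G) ≤ M := centralizer_le_stab .refl
    have hM : M ≠ ⊤ := fun e => by
      obtain ⟨g, rfl⟩ := isConj_iff.mp hd
      exact hne (show g ∈ stab t t by rw [← hMdef, e]; trivial)
    have htM : t ∈ M := hCM (hS htS)
    have hpM : 2 ∣ Nat.card M := h.ord ▸ M.orderOf_dvd_natCard htM
    have hodd : ∀ g : G, g ∉ M → ¬ 2 ∣ Nat.card ↥(M ⊓ M.map (MulAut.conj g).toMonoidHom) := by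
      intro g hg hdvd
      obtain ⟨⟨u, hu, g', hg', rfl⟩, hu2⟩ := exists_prime_orderOf_dvd_card' 2 hdvd
      have hconj : ∀ v ∈ M, v * v = 1 → v ≠ 1 → ∃ a, Reach t t a ∧ Commute a v := by
        intro v hv hv2 hv1
        let SM : Sylow 2 M := S.subtype (hS.trans hCM)
        have hvP : IsPGroup 2 (zpowers (⟨v, hv⟩ : M)) := IsPGroup.of_card (n := 1) (by
          rw [Nat.card_zpowers, ← Subgroup.orderOf_coe, pow_one]
          exact orderOf_eq_prime (by rw [pow_two]; exact hv2) hv1)
        obtain ⟨Q, hQ⟩ := hvP.exists_le_sylow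
        obtain ⟨m, hm⟩ := MulAction.exists_smul_eq M Q SM
        have hmv : m * ⟨v, hv⟩ * m⁻¹ ∈ (SM : Subgroup M) := by
          rw [← hm]; exact ⟨⟨v, hv⟩, hQ (mem_zpowers _), rfl⟩
        have hc1 : Commute ((m : G) * v * (m : G)⁻¹) t :=
          mem_centralizer_singleton_iff.mp (hS (mem_subgroupOf.mp hmv))
        refine ⟨(m : G)⁻¹ * t * m, ?_, ?_⟩
        · have := M.inv_mem m.2
          simpa using (show Reach t t ((m : G)⁻¹ * t * (m : G)⁻¹⁻¹) from this)
        · simpa [mul_assoc] using (Commute.conj hc1 (m : G)⁻¹).symm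
      have hord : orderOf (g * g' * g⁻¹) = 2 := by rw [← Subgroup.orderOf_coe] at hu2; exact hu2
      have hv2 : g' * g' = 1 := by
        have := pow_orderOf_eq_one (g * g' * g⁻¹)
        rw [hord, conj_pow, conj_eq_one_iff, pow_two] at this
        exact this
      have hv1 : g' ≠ 1 := fun e => by simp [e] at hord
      obtain ⟨a, hra, hca⟩ := hconj _ hu (show g * g' * g⁻¹ * (g * g' * g⁻¹) = 1 by rw [conj_mul, hv2, mul_one, mul_inv_cancel])
        (fun e => hv1 (conj_eq_one_iff.mp e))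
      obtain ⟨a', hra', hca'⟩ := hconj g' hg' hv2 hv1
      have hr := h.reach_of_commute (fun A _ _ hlt s hs d hd => IH _ hlt hs hd rfl)
        (hra.isConj (IsConj.refl t)) ((hra'.isConj (IsConj.refl t)).trans (isConj_iff.mpr ⟨g, rfl⟩))
        (show g * g' * g⁻¹ * (g * g' * g⁻¹) = 1 by rw [conj_mul, hv2, mul_one, mul_inv_cancel]) (fun e => hv1 (conj_eq_one_iff.mp e)) hca
        (Commute.conj hca' g)
      exact hg (Relation.ReflTransGen.trans hra (Relation.ReflTransGen.trans hr (hra'.conj g).symm))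
    have hse : Cfsg.IsStronglyPEmbedded 2 M := (S2797.result S M hM hpM _ rfl).1.mpr hodd
    obtain ⟨E, hE, htE⟩ := h.exists_isE
    have hrank : Cfsg.PRankAtLeast 2 2 G := ⟨E, ⟨⟨fun a b => Subtype.ext (hE.comm a a.2 b b.2).eq⟩⟩,
      fun a ha => by
        by_cases ha1 : a = 1
        · rw [ha1, one_pow]
        · rw [pow_two]; exact h.mul_self_of_isConj (hE.cls a ha ha1),
      by rw [hE.card]; norm_num⟩
    obtain ⟨e⟩ := h.model
    have hsol : Group.IsSolvable M := S2903.result hrank M hse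
    have hWM : Wt t ≤ M := (Wt_le t).trans hCM
    exact mdl_not_solvable (Group.isSolvable_of_isSolvable_injective
      (f := (Subgroup.inclusion hWM).comp e.symm.toMonoidHom)
      ((Subgroup.inclusion_injective hWM).comp e.symm.injective))

end Cfsg.Agent.J1Closure
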