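/-
A perfect group in which `t` has centraliser `(2 × A5)` times a central subgroup is Janko's first group.
Main results: `mdl_two_comm`, `isoJ1_of_data`.
-/
import Cfsg.Agent.Lib.J1Closure.Connected
import Cfsg.Agent.Lib.JankoUnique.Main
import Cfsg.Agent.Lib.Transfer.AbelianHall

set_option autoImplicit false

namespace Cfsg.Agent.J1Closure

open Subgroup
open JankoOneOrder (Mdl m1)

/-- Two-subgroups of the model are abelian. -/
theorem mdl_two_comm {K : Subgroup Mdl} (hK : IsPGroup 2 K) {a b : Mdl} (ha : a ∈ K) (hb : b ∈ K) :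
    a * b = b * a := by
  have : Fact (Nat.Prime 2) := ⟨Nat.prime_two⟩
  obtain ⟨P, hP⟩ := hK.exists_le_sylow
  let A : Sylow 2 Mdl := Sylow.ofCard eSub (by rw [card_eSub, mdl_fac]; norm_num)
  obtain ⟨g, hg⟩ := MulAction.exists_smul_eq Mdl A P
  have hx : ∀ x ∈ K, ∃ e ∈ eList, g * e * g⁻¹ = x := by
    intro x hx
    have hxP : x ∈ (P : Subgroup Mdl) := hP hx
    rw [← hg] at hxP
    obtain ⟨e, he, rfl⟩ := hxP
    exact ⟨e, he, rfl⟩
  obtain ⟨x, hx', rfl⟩ := hx a ha
  obtain ⟨y, hy', rfl⟩ := hx b hb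
  rw [conj_mul, conj_mul]
  congr 2
  calc x * y = (x * y)⁻¹ := (inv_eq_of_mul_eq_one_right (eList_sq _ (eList_mul x hx' y hy'))).symm
    _ = y * x := by rw [mul_inv_rev, inv_eq_of_mul_eq_one_right (eList_sq x hx'), inv_eq_of_mul_eq_one_right (eList_sq y hy')]

/-- The data of the normal closure of `t`. -/
structure Data (N : Type*) [Group N] (t : N) (j : Mdl →* N) (Z : Subgroup N) : Prop where
  inj : Function.Injective j
  top : j m1 = t
  central : Z ≤ center N
  cent : ∀ c ∈ centralizer ({t} : Set N), ∃ w, ∃ z ∈ Z, c = j w * z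
  disj : ∀ w, j w ∈ Z → w = 1
  invol : ∀ w, w * w = 1 → w ≠ 1 → IsConj t (j w)
  normal : ∀ M : Subgroup N, M.Normal → t ∈ M → M = ⊤
  odd : ¬ 2 ∣ Nat.card {x : N // IsConj t x}

namespace Data

variable {N : Type*} [Group N] {t : N} {j : Mdl →* N} {Z : Subgroup N}

theorem m1_facts : m1 * m1 = 1 ∧ m1 ≠ 1 := by decide +kernel

theorem ord (h : Data N t j Z) : orderOf t = 2 := by
  have : Fact (Nat.Prime 2) := ⟨Nat.prime_two⟩
  exact orderOf_eq_prime (by rw [pow_two, ← h.top, ← map_mul, m1_facts.1, map_one])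
    fun e => m1_facts.2 (h.inj (by rw [h.top, e, map_one]))

theorem self_mul (h : Data N t j Z) : t * t = 1 := by
  rw [← h.top, ← map_mul, m1_facts.1, map_one]

theorem j_mem_cent (h : Data N t j Z) (w : Mdl) : j w ∈ centralizer ({t} : Set N) := by
  refine mem_centralizer_singleton_iff.mpr ?_
  rw [← h.top, ← map_mul, ← map_mul, JankoOneOrder.m1_central]

variable [Finite N]

omit [Finite N] in
theorem perfect (h : Data N t j Z) : commutator N = ⊤ := by
  obtain ⟨a, b, hab⟩ := commutator_ma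
  obtain ⟨-, -, -, -, -, ha1, -, haa, -⟩ := gen_facts
  obtain ⟨g, hg⟩ := isConj_iff.mp (h.invol ma haa ha1)
  refine h.normal _ inferInstance ?_
  have hm : j ma ∈ commutator N := by
    rw [← hab]
    simp only [map_mul, map_inv]
    exact commutator_mem_commutator (mem_top _) (mem_top _)
  have := (inferInstance : (commutator N).Normal).conj_mem _ hm g⁻¹
  rwa [← hg, show g⁻¹ * (g * t * g⁻¹) * g⁻¹⁻¹ = t by group] at this

omit [Finite N] in
/-- A Sylow 2-subgroup centralising `t` is abelian. -/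
theorem sylow_comm (h : Data N t j Z) {P : Sylow 2 N} (hP : (P : Subgroup N) ≤ centralizer ({t} : Set N)) :
    IsMulCommutative (P : Subgroup N) := by
  refine ⟨⟨fun a b => Subtype.ext ?_⟩⟩
  obtain ⟨u, z, hz, hu⟩ := h.cent a (hP a.2)
  obtain ⟨v, z', hz', hv⟩ := h.cent b (hP b.2)
  let K : Subgroup Mdl := ((P : Subgroup N) ⊔ Z).comap j
  have hZn : Z.Normal := ⟨fun x hx g => by
    rw [mem_center_iff.mp (h.central hx) g, mul_inv_cancel_right]; exact hx⟩
  have hK : IsPGroup 2 K := by
    intro w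
    obtain ⟨p, hp, y, hy, he⟩ := mem_sup_of_normal_right.mp (show j w.1 ∈ (P : Subgroup N) ⊔ Z from w.2)
    obtain ⟨k, hk⟩ := P.2 ⟨p, hp⟩
    refine ⟨k, Subtype.ext (h.disj _ ?_)⟩
    rw [Subgroup.coe_pow, map_pow, ← he, (show Commute p y from mem_center_iff.mp (h.central hy) p).mul_pow,
      show p ^ 2 ^ k = 1 from congrArg Subtype.val hk, one_mul]
    exact pow_mem hy _
  have hmem : ∀ (w : Mdl) (p y : N), p ∈ (P : Subgroup N) → y ∈ Z → p = j w * y → w ∈ K := by
    intro w p y hp hy e
    show j w ∈ (P : Subgroup N) ⊔ Z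
    rw [show j w = p * y⁻¹ by rw [e, mul_inv_cancel_right]]
    exact mul_mem (mem_sup_left hp) (mem_sup_right (inv_mem hy))
  have hc : Commute (j u) (j v) :=
    (show Commute u v from mdl_two_comm hK (hmem u _ z a.2 hz hu) (hmem v _ z' b.2 hz' hv)).map j
  show (a : N) * b = b * a
  rw [hu, hv]
  have c1 : ∀ x : N, Commute x z := fun x => mem_center_iff.mp (h.central hz) x
  have c2 : ∀ x : N, Commute x z' := fun x => mem_center_iff.mp (h.central hz') x
  exact (hc.mul_right (c2 (j u))).mul_left ((c1 (j v)).symm.mul_right (c2 z)) |>.eq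

/-- The central part has odd order. -/
theorem Z_odd (h : Data N t j Z) : ∀ z ∈ Z, z * z = 1 → z = 1 := by
  intro z hz hzz
  by_contra hz1
  have : Fact (Nat.Prime 2) := ⟨Nat.prime_two⟩
  obtain ⟨P, -, hP⟩ := exists_sylow_centralizer h.self_mul h.odd
  have hzP : z ∈ (P : Subgroup N) := by
    have hz2 : IsPGroup 2 (zpowers z) := IsPGroup.of_card (n := 1) (by
      rw [Nat.card_zpowers, orderOf_eq_prime (by rw [pow_two, hzz]) hz1, pow_one])
    have hn : (P : Subgroup N) ≤ normalizer (zpowers z : Set N) := fun p _ => by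
      refine centralizer_le_normalizer _ ?_
      refine mem_centralizer_iff.mpr fun y hy => ?_
      obtain ⟨k, rfl⟩ := mem_zpowers_iff.mp hy
      exact ((show Commute p z from mem_center_iff.mp (h.central hz) p).zpow_right k).symm.eq
    rw [← P.3 (P.2.to_sup_of_normal_right' hz2 hn) le_sup_left]
    exact mem_sup_right (mem_zpowers z)
  have h1 := Transfer.inf_commutator_inf_center_eq_bot (P : Subgroup N) (h.sylow_comm hP) P.card_coprime_index
  have h2 : z ∈ (P : Subgroup N) ⊓ commutator N ⊓ center N :=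
    ⟨⟨hzP, by rw [h.perfect]; trivial⟩, h.central hz⟩
  rw [h1, mem_bot] at h2
  exact hz1 h2

omit [Finite N] in
theorem model_part (h : Data N t j Z) {M : Subgroup N} (hM : M.Normal) (hMne : M ≠ ⊤) {w : Mdl}
    (hw : j w ∈ M) : w = 1 := by
  have hinv : ∀ v, v * v = 1 → v ≠ 1 → j v ∉ M := by
    intro v hv hv1 hvM
    obtain ⟨g, hg⟩ := isConj_iff.mp (h.invol v hv hv1)
    refine hMne (h.normal M hM ?_)
    have := hM.conj_mem _ hvM g⁻¹
    rwa [← hg, show g⁻¹ * (g * t * g⁻¹) * g⁻¹⁻¹ = t by group] at this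
  have hstep : ∀ v y, j v ∈ M → j (v * (y * v * y⁻¹)) ∈ M := fun v y hv => by
    rw [map_mul, map_mul, map_mul, map_inv]
    exact mul_mem hv (hM.conj_mem _ hv _)
  by_contra hw1
  rcases normal_step w hw1 with h2 | ⟨y, hy1, hy3⟩
  · exact hinv w h2 hw1 hw
  · obtain ⟨y', hy'1, hy'2⟩ := normal_three _ hy3 hy1
    exact hinv _ hy'2 hy'1 (hstep _ y' (hstep w y hw))

/-- A normal subgroup containing the central part is trivial or everything. -/
theorem normal_cases (h : Data N t j Z) {M : Subgroup N} (hM : M.Normal) (hZM : Z ≤ M) (hMne : M ≠ ⊤) :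
    M ≤ Z := by
  classical
  have : Fact (Nat.Prime 2) := ⟨Nat.prime_two⟩
  have hC : ∀ c ∈ M, c ∈ centralizer ({t} : Set N) → c ∈ Z := by
    intro c hc hct
    obtain ⟨w, z, hz, rfl⟩ := h.cent c hct
    have := mul_mem hc (inv_mem (hZM hz))
    rw [mul_inv_cancel_right] at this
    rw [h.model_part hM hMne this, map_one, one_mul]
    exact hz
  have hodd : ¬ 2 ∣ Nat.card M := by
    intro hd
    obtain ⟨⟨x, hx⟩, hxo⟩ := exists_prime_orderOf_dvd_card' 2 hd
    rw [← Subgroup.orderOf_coe] at hxo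
    obtain ⟨P, -, hP⟩ := exists_sylow_centralizer h.self_mul h.odd
    obtain ⟨Q, hQ⟩ := (IsPGroup.of_card (n := 1) (G := zpowers x) (p := 2)
      (by rw [Nat.card_zpowers, pow_one]; exact hxo)).exists_le_sylow
    obtain ⟨m, hm⟩ := MulAction.exists_smul_eq N Q P
    have hmx : m * x * m⁻¹ ∈ (P : Subgroup N) := by
      rw [← hm]; exact ⟨x, hQ (mem_zpowers _), rfl⟩
    have hz := h.Z_odd _ (hC _ (hM.conj_mem x hx m) (hP hmx)) (by
      rw [conj_mul, ← pow_two, show x ^ 2 = 1 from hxo ▸ pow_orderOf_eq_one x, mul_one, mul_inv_cancel])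
    rw [conj_eq_one_iff] at hz
    change orderOf x = 2 at hxo
    rw [hz, orderOf_one] at hxo
    omega
  let A := eSub.map j
  have hA : ¬ IsCyclic A := fun hcy => by
    obtain ⟨g, hg⟩ := hcy.exists_zpow_surjective
    have h8 := orderOf_eq_card_of_forall_mem_zpowers fun x => mem_zpowers_iff.mpr (hg x)
    rw [card_map_of_injective h.inj, card_eSub] at h8
    have h2 : orderOf g ∣ 2 := orderOf_dvd_of_pow_eq_one (Subtype.ext (by
      show (g : N) ^ 2 = 1
      obtain ⟨e, he, hge⟩ := g.2
      rw [← hge, ← map_pow, pow_two, eList_sq e he, map_one]))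
    have := Nat.le_of_dvd (by norm_num) h2
    omega
  have : IsMulCommutative A := ⟨⟨by
    rintro ⟨_, a, ha, rfl⟩ ⟨_, b, hb, rfl⟩
    refine Subtype.ext ?_
    show j a * j b = j b * j a
    rw [← map_mul, ← map_mul]
    congr 1
    calc a * b = (a * b)⁻¹ := (inv_eq_of_mul_eq_one_right (eList_sq _ (eList_mul a ha b hb))).symm
      _ = b * a := by rw [mul_inv_rev, inv_eq_of_mul_eq_one_right (eList_sq a ha), inv_eq_of_mul_eq_one_right (eList_sq b hb)]⟩⟩
  have hcop : (Nat.card A).Coprime (Nat.card M) := by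
    rw [card_map_of_injective h.inj, card_eSub, show (8 : ℕ) = 2 ^ 3 by norm_num]
    exact Nat.Coprime.pow_left 3 ((Nat.Prime.coprime_iff_not_dvd Nat.prime_two).mpr hodd)
  rw [← S0058.result A M hA (fun a _ => by rw [normalizer_eq_top_iff.mpr hM]; trivial) hcop]
  refine iSup₂_le fun a ha c hc => ?_
  obtain ⟨⟨e, he, rfl⟩, ha1⟩ := ha
  obtain ⟨g, hg⟩ := isConj_iff.mp (h.invol e (eList_sq e he) fun e' => ha1 (by rw [e', map_one]))
  have hct : g⁻¹ * c * g ∈ centralizer ({t} : Set N) := by
    refine mem_centralizer_singleton_iff.mpr ?_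
    have h2 : Commute c (g * t * g⁻¹) := hg.symm ▸ (mem_centralizer_singleton_iff.mp hc.2)
    have := Commute.conj h2 g⁻¹
    simpa [mul_assoc] using this.eq
  have hcZ := hC _ (by simpa using hM.conj_mem c hc.1 g⁻¹) hct
  have e1 := mem_center_iff.mp (h.central hcZ) g
  rw [show g⁻¹ * c * g = c by
    calc g⁻¹ * c * g = g * (g⁻¹ * c * g) * g⁻¹ := by rw [e1, mul_inv_cancel_right]
      _ = c := by group] at hcZ
  exact hcZ

/-- The group is Janko's first group. -/
theorem isoJ1 (h : Data N t j Z) : Cfsg.Spor.IsoJ1 N := by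
  classical
  have : Fact (Nat.Prime 2) := ⟨Nat.prime_two⟩
  have hZn : Z.Normal := ⟨fun x hx g => by
    rw [mem_center_iff.mp (h.central hx) g, mul_inv_cancel_right]; exact hx⟩
  let π := QuotientGroup.mk' Z
  have hπs : Function.Surjective π := QuotientGroup.mk'_surjective Z
  have htZ : t ∉ Z := fun e => m1_facts.2 (h.disj m1 (h.top ▸ e))
  have hπ1 : ∀ x, π x = 1 ↔ x ∈ Z := fun x => QuotientGroup.eq_one_iff x
  have : Nontrivial (N ⧸ Z) := ⟨⟨π t, 1, fun e => htZ ((hπ1 t).mp e)⟩⟩
  have : IsSimpleGroup (N ⧸ Z) := ⟨fun K hK => by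
    by_cases hKt : K.comap π = ⊤
    · exact Or.inr (eq_top_iff.mpr fun q _ => by
        obtain ⟨x, rfl⟩ := hπs q
        exact mem_comap.mp (hKt ▸ mem_top x))
    · refine Or.inl (eq_bot_iff.mpr fun q hq => ?_)
      obtain ⟨x, rfl⟩ := hπs q
      exact mem_bot.mpr ((hπ1 x).mpr (h.normal_cases (hK.comap π)
        (fun z hz => mem_comap.mpr (by rw [(hπ1 z).mpr hz]; exact one_mem K)) hKt hq))⟩
  have hij : Function.Injective (π.comp j) := (injective_iff_map_eq_one _).mpr
    fun w hw => h.disj w ((hπ1 _).mp hw)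
  have hrange : (π.comp j).range = centralizer ({π t} : Set (N ⧸ Z)) := by
    refine le_antisymm ?_ fun q hq => ?_
    · rintro _ ⟨w, rfl⟩
      exact mem_centralizer_singleton_iff.mpr
        ((show Commute (j w) t from mem_centralizer_singleton_iff.mp (h.j_mem_cent w)).map π).eq
    · obtain ⟨x, rfl⟩ := hπs q
      set z := t⁻¹ * (x * t * x⁻¹) with hz
      have hzZ : z ∈ Z := by
        refine (hπ1 z).mp ?_
        rw [hz, map_mul, map_mul, map_mul, map_inv, map_inv, mem_centralizer_singleton_iff.mp hq,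
          mul_inv_cancel_right, inv_mul_cancel]
      have hzz : z * z = 1 := by
        have e : x * t * x⁻¹ = t * z := by rw [hz, mul_inv_cancel_left]
        have h2 : (t * z) * (t * z) = 1 := by rw [← e, conj_mul, h.self_mul, mul_one, mul_inv_cancel]
        have hc : t * z = z * t := mem_center_iff.mp (h.central hzZ) t
        calc z * z = t * t * (z * z) := by rw [h.self_mul, one_mul]
          _ = t * (t * z) * z := by simp only [mul_assoc]
          _ = t * (z * t) * z := by rw [hc]
          _ = (t * z) * (t * z) := by simp only [mul_assoc]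
          _ = 1 := h2
      have hxt : x ∈ centralizer ({t} : Set N) := mem_centralizer_singleton_iff.mpr
        (mul_inv_eq_iff_eq_mul.mp (inv_mul_eq_one.mp (h.Z_odd z hzZ hzz)).symm)
      obtain ⟨w, y, hy, rfl⟩ := h.cent x hxt
      exact ⟨w, by rw [map_mul, (hπ1 y).mpr hy, mul_one]; rfl⟩
  let e : centralizer ({π t} : Set (N ⧸ Z)) ≃* Mdl :=
    ((MonoidHom.ofInjective hij).trans (MulEquiv.subgroupCongr hrange)).symm
  obtain ⟨P, htP, hP⟩ := exists_sylow_centralizer h.self_mul h.odd
  have hπt : π t ≠ 1 := fun e => htZ ((hπ1 t).mp e)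
  have hord : orderOf (π t) = 2 := orderOf_eq_prime (by rw [← map_pow, pow_two, h.self_mul, map_one]) hπt
  have htc : IsTwoCentralInvolution (π t) := by
    refine ⟨hord, P.mapSurjective hπs, ⟨t, htP, rfl⟩, ?_⟩
    rintro _ ⟨x, hx, rfl⟩
    exact ((show Commute x t from mem_centralizer_singleton_iff.mp (hP hx)).map π).eq
  have hcard := JankoOneOrder.card_eq htc e
  -- all Sylow subgroups of `N` are abelian
  have hab : ∀ p : ℕ, p.Prime → ∀ P' : Sylow p N, IsMulCommutative P' := by
    intro p hp P'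
    have := Fact.mk hp
    by_cases hp2 : p = 2
    · subst hp2
      have hPc := h.sylow_comm hP
      obtain ⟨g, hg⟩ := MulAction.exists_smul_eq N P P'
      refine ⟨⟨fun a b => Subtype.ext ?_⟩⟩
      have ha := a.2; have hb := b.2
      simp only [← hg] at ha hb
      obtain ⟨a', ha', hae⟩ := ha
      obtain ⟨b', hb', hbe⟩ := hb
      show (a : N) * b = b * a
      rw [← hae, ← hbe]
      have hc : Commute a' b' := congrArg Subtype.val (hPc.is_comm.comm (⟨a', ha'⟩ : (P : Subgroup N)) ⟨b', hb'⟩)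
      exact hc.map _
    · let f : (P' : Subgroup N) →* N ⧸ Z := π.comp (P' : Subgroup N).subtype
      have hR : IsPGroup p f.range := P'.2.of_surjective f.rangeRestrict f.rangeRestrict_surjective
      have hcyc : IsCyclic f.range := by
        obtain ⟨k, hk⟩ := hR.exists_card_eq
        have hdvd : p ^ k ∣ 175560 := hk ▸ hcard ▸ f.range.card_subgroup_dvd_card
        rcases Nat.lt_or_ge k 2 with hk2 | hk2
        · interval_cases k
          · have : Subsingleton f.range := (Nat.card_eq_one_iff_unique.mp (by simpa using hk)).1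
            infer_instance
          · exact isCyclic_of_prime_card (p := p) (by simpa using hk)
        · exfalso
          have h2 : p ^ 2 ∣ 175560 := (pow_dvd_pow p hk2).trans hdvd
          have hle : p ^ 2 ≤ 175560 := Nat.le_of_dvd (by norm_num) h2
          have hp420 : p < 420 := by nlinarith
          have key : ∀ q < 420, q ≠ 2 → 1 < q → ¬ q * q ∣ 175560 ∨ ¬ q.Prime := by decide +kernel
          rcases key p hp420 hp2 hp.one_lt with h3 | h3
          · exact h3 (pow_two p ▸ h2)
          · exact h3 hp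
      have hker : f.rangeRestrict.ker ≤ center (P' : Subgroup N) := by
        rw [MonoidHom.ker_rangeRestrict]
        intro x hx
        exact mem_center_iff.mpr fun y => Subtype.ext (mem_center_iff.mp (h.central ((hπ1 _).mp hx)) y)
      exact f.rangeRestrict.isMulCommutative_of_isCyclic_of_ker_le_center hker
  have hZbot : Z = ⊥ := by
    rw [eq_bot_iff, ← Transfer.commutator_inf_center_eq_bot hab, h.perfect, top_inf_eq]
    exact h.central
  obtain ⟨iso⟩ := JankoUnique.isoJ1 htc e
  exact ⟨((QuotientGroup.quotientMulEquivOfEq hZbot).trans QuotientGroup.quotientBot).symm.trans iso⟩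

end Data

end Cfsg.Agent.J1Closure
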