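/-
The normal closure of an involution whose weak closure in its centraliser is `2 × A5`.
Main results: `Hyp.isoJ1`.
-/
import Cfsg.Agent.Lib.J1Closure.Quot

set_option autoImplicit false

namespace Cfsg.Agent.J1Closure

open Subgroup
open JankoOneOrder (Mdl m1)

universe u

variable {G : Type u} [Group G] [Finite G] {t : G}

omit [Finite G] in
theorem IsE.exists_ne {E : Subgroup G} (hE : IsE t E) : ∃ d ∈ E, d ≠ 1 := by
  by_contra hne
  push Not at hne
  have : E = ⊥ := eq_bot_iff.mpr fun d hd => mem_bot.mpr (hne d hd)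
  have h8 := hE.card
  rw [this, card_bot] at h8
  omega

theorem Hyp.hs_const (h : Hyp G t) {E E' : Subgroup G} (hE : IsE t E) (hE' : IsE t E') : Hs E = Hs E' := by
  obtain ⟨a, ha, ha1⟩ := hE.exists_ne
  obtain ⟨b, hb, hb1⟩ := hE'.exists_ne
  exact h.hs_eq_of_reach ((h.reach (hE.cls a ha ha1)).symm.trans (h.reach (hE'.cls b hb hb1)))
    (hE.cls a ha ha1) hE hE' ha hb

theorem Hyp.exists_conj_mem (h : Hyp G t) {d : G} (hd : IsConj t d) :
    ∃ m ∈ normalClosure ({t} : Set G), m * t * m⁻¹ = d := by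
  have hr := h.reach hd
  clear hd
  induction hr with
  | refl => exact ⟨1, one_mem _, by rw [one_mul, inv_one, mul_one]⟩
  | @tail a b _ hab ih =>
    obtain ⟨m, hm, hma⟩ := ih
    have hA := h.conj hab.1
    obtain ⟨E, hE, haE, hbE⟩ := hA.exists_isE_pair (hab.1.symm.trans hab.2.1) hab.2.2
    obtain ⟨F⟩ := hA.exists_frame hE haE
    obtain ⟨n, hn⟩ := hA.exists_seven hE F
    obtain ⟨i, hi⟩ := hn.trans a haE hA.ne_one b hbE (h.ne_one_of_isConj hab.2.1)
    have hnN : n ∈ normalClosure ({t} : Set G) := by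
      refine normalClosure_le_normal ?_ hn.gen
      rintro _ rfl
      obtain ⟨g, rfl⟩ := isConj_iff.mp hab.1
      exact normalClosure_normal.conj_mem t (subset_normalClosure (Set.mem_singleton t)) g
    refine ⟨n ^ i * m, mul_mem (pow_mem hnN i) hm, ?_⟩
    rw [← hi, ← hma]
    group

/-- The normal closure of `t` is Janko's first group. -/
theorem Hyp.isoJ1 (h : Hyp G t) : Cfsg.Spor.IsoJ1 ↥(normalClosure ({t} : Set G)) := by
  classical
  obtain ⟨E, hE, ht⟩ := h.exists_isE
  obtain ⟨j0, hj0, hjr, hj1⟩ := h.exists_hom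
  set N := normalClosure ({t} : Set G) with hN
  set H := Hs E with hH
  have hNn : N.Normal := normalClosure_normal
  have htN : t ∈ N := subset_normalClosure (Set.mem_singleton t)
  have hclassN : ∀ d, IsConj t d → d ∈ N := fun d hd => by
    obtain ⟨g, rfl⟩ := isConj_iff.mp hd
    exact hNn.conj_mem t htN g
  have hWN : Wt t ≤ N := (closure_le _).mpr fun x hx => hclassN x hx.1
  have hcentral : ∀ u ∈ H, ∀ x ∈ N, x * u = u * x := by
    intro u hu x hx
    have hle : N ≤ centralizer ({u} : Set G) := by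
      rw [hN, normalClosure, closure_le]
      intro y hy
      replace hy : IsConj t y := by
        obtain ⟨a, ha, hay⟩ := Group.mem_conjugatesOfSet_iff.mp hy
        rwa [Set.mem_singleton_iff.mp ha] at hay
      obtain ⟨E', hE', hyE'⟩ := (h.conj hy).exists_isE
      rw [hH, h.hs_const hE (hE'.of_isConj hy.symm)] at hu
      exact mem_centralizer_singleton_iff.mpr
        (mem_centralizer_iff.mp (mem_Hs.mp hu y hyE' (h.ne_one_of_isConj hy)) y (mem_Wt_self y))
    exact mem_centralizer_singleton_iff.mp (hle hx)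
  let j : Mdl →* N := j0.codRestrict N fun w => hWN (hjr ▸ ⟨w, rfl⟩)
  let tN : N := ⟨t, htN⟩
  have hinj : Function.Injective j := fun a b hab => hj0 (congrArg Subtype.val hab)
  have hconjN : ∀ d : N, IsConj t (d : G) → IsConj tN d := by
    intro d hd
    obtain ⟨m, hm, hmd⟩ := h.exists_conj_mem hd
    exact isConj_iff.mpr ⟨⟨m, hm⟩, Subtype.ext hmd⟩
  refine Data.isoJ1 (N := N) (t := tN) (j := j) (Z := H.subgroupOf N) ⟨hinj, Subtype.ext hj1, ?_, ?_, ?_, ?_, ?_, ?_⟩
  · exact fun z hz => mem_center_iff.mpr fun x => Subtype.ext (hcentral z (mem_subgroupOf.mp hz) x x.2)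
  · intro c hc
    obtain ⟨w, hw, hwc⟩ := h.cent_t_eq hE ht (c := (c : G))
      (mem_centralizer_singleton_iff.mpr (congrArg Subtype.val (mem_centralizer_singleton_iff.mp hc)))
    obtain ⟨y, hy⟩ : w⁻¹ ∈ j0.range := hjr.symm ▸ inv_mem hw
    refine ⟨y, (j y)⁻¹ * c, mem_subgroupOf.mpr ?_, (mul_inv_cancel_left _ _).symm⟩
    show (j0 y)⁻¹ * (c : G) ∈ H
    rw [hy, inv_inv]
    exact hwc
  · intro w hw
    have := h.hs_inter hE ht (mem_subgroupOf.mp hw) (hjr ▸ ⟨w, rfl⟩ : j0 w ∈ Wt t)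
    exact hj0 (this.trans (map_one j0).symm)
  · intro w hw hw1
    refine hconjN _ (h.invol_conj (x := j0 w) (hjr ▸ ⟨w, rfl⟩) (by rw [← map_mul, hw, map_one]) ?_)
    exact fun e => hw1 (hj0 (e.trans (map_one j0).symm))
  · intro M hM htM
    have hle : N ≤ M.map N.subtype := by
      conv_lhs => rw [hN, normalClosure]
      refine (closure_le _).mpr fun y hy => ?_
      replace hy : IsConj t y := by
        obtain ⟨a, ha, hay⟩ := Group.mem_conjugatesOfSet_iff.mp hy
        rwa [Set.mem_singleton_iff.mp ha] at hay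
      obtain ⟨g, hg⟩ := isConj_iff.mp (hconjN ⟨y, hclassN y hy⟩ hy)
      exact ⟨⟨y, hclassN y hy⟩, hg ▸ hM.conj_mem tN htM g, rfl⟩
    refine eq_top_iff.mpr fun x _ => ?_
    obtain ⟨y, hy, hyx⟩ := hle x.2
    exact (Subtype.ext hyx : y = x) ▸ hy
  · rw [Nat.card_eq_of_bijective (fun x : {x : N // IsConj tN x} =>
      (⟨x.1.1, N.subtype.map_isConj x.2⟩ : {x : G // IsConj t x}))
      ⟨fun a b hab => Subtype.ext (Subtype.ext (congrArg (fun q : {x : G // IsConj t x} => q.1) hab)),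
        fun y => ⟨⟨⟨y.1, hclassN y.1 y.2⟩, hconjN _ y.2⟩, rfl⟩⟩]
    exact h.odd

end Cfsg.Agent.J1Closure
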